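import Cfsg.Agent.KFacts.TwF4.Irr
import Cfsg.Agent.KFacts.TwF4.TorFix
import Cfsg.Agent.H392.LongRoot
import Cfsg.Agent.FastGrp
import Cfsg.Agent.Prune
set_option linter.all false

section
prune_inst 0x7f00000000000000000000000000000000000000000000000000000000000000000000000000000000000000000000000000000000000000000000000000000000000000000000000000000000000000003fffffffffffffffffffffffffffbeffbdffffffff

-- part: H392/TwFFour/Card
section
set_option linter.all false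
open scoped Cfsg.Agent.FastGrp

/-!
# Orders of subgroups of `²F₄(q)` (coordinates `Full σ G`)

`|J 1 8| = q¹²`, `|Q| = q¹⁰`, `|Q2| ≤ q⁵`, `|Z_4| = q`, `|Z_4 Z_6| = q²`, `|N(Z_4)| = q¹² (q - 1)² (q² + 1)`.
-/

set_option autoImplicit false
set_option linter.unusedSectionVars false

namespace Cfsg.Agent.H392.TwFFour

open Cfsg.Agent.SplitTwo Cfsg.Agent.SplitTwo.ZS Cfsg.Agent.TitsThree.RankTwoZ Cfsg.Agent.KFacts.TwF4
open Cfsg.Agent.KFacts.TwF4.Arc Cfsg.Agent.KFacts.TwF4.Irr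

universe u

variable {F : Type*} [Field F] [Finite F] {σ : F →+* F} {G : Type u} [Group G] (S : Full σ G)

theorem card_odd (a : ℤ) : Nat.card (S.XZ (2 * a + 1)) = Nat.card F := by
  symm
  refine Nat.card_congr (Equiv.ofBijective (fun t : F => (⟨S.o (a : ZMod 8) t, S.o_mem a t⟩ : S.XZ (2 * a + 1))) ?_)
  constructor
  · intro t s h
    exact S.injO _ (congrArg Subtype.val h)
  · rintro ⟨x, hx⟩
    obtain ⟨t, ht⟩ := (S.mem_XZ_odd a x).1 hx
    exact ⟨t, Subtype.ext ht⟩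

theorem card_even (a : ℤ) : Nat.card (S.XZ (2 * a)) = Nat.card F ^ 2 := by
  rw [pow_two, ← Nat.card_prod]
  symm
  refine Nat.card_congr (Equiv.ofBijective
    (fun w : F × F => (⟨S.e (a : ZMod 8) w.1 w.2, S.e_mem a w.1 w.2⟩ : S.XZ (2 * a))) ?_)
  constructor
  · rintro ⟨p, u⟩ ⟨q, v⟩ h
    obtain ⟨h1, h2⟩ := S.injE _ _ _ _ _ (congrArg Subtype.val h)
    exact Prod.ext h1 h2
  · rintro ⟨x, hx⟩
    obtain ⟨p, u, ht⟩ := (S.mem_XZ_even a x).1 hx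
    exact ⟨(p, u), Subtype.ext ht⟩

theorem card_J_succ {a b : ℤ} (hab : a ≤ b) (hb : b < a + 8) :
    Nat.card (J S.XZ a b) = Nat.card (S.XZ a) * Nat.card (J S.XZ (a + 1) b) := by
  have Z8 := S.zsys8
  rw [← Nat.card_prod]
  symm
  refine Nat.card_congr (Equiv.ofBijective
    (fun w : S.XZ a × J S.XZ (a + 1) b => (⟨(w.1 : G) * w.2, mul_mem (mem_J w.1.2 le_rfl hab)
      (J_mono (by omega) le_rfl w.2.2)⟩ : J S.XZ a b)) ?_)
  constructor
  · rintro ⟨x, y⟩ ⟨x', y'⟩ h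
    have h1 : (x : G) * y = x' * y' := congrArg Subtype.val h
    have h2 : (x' : G)⁻¹ * x = y' * (y : G)⁻¹ := by
      rw [inv_mul_eq_iff_eq_mul, ← mul_assoc, ← h1, mul_inv_cancel_right]
    have h3 : (x' : G)⁻¹ * x = 1 := by
      refine Z8.inter a _ (mul_mem (inv_mem x'.2) x.2) ?_
      rw [h2]
      exact J_mono le_rfl (by omega) (mul_mem y'.2 (inv_mem y.2))
    have h4 : x = x' := Subtype.ext (by rw [inv_mul_eq_one] at h3; exact h3.symm)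
    subst h4
    have h5 : y = y' := Subtype.ext (mul_left_cancel h1)
    rw [h5]
  · rintro ⟨g, hg⟩
    obtain ⟨x, hx, y, hy, rfl⟩ := Z8.split_ll hab hb hg
    exact ⟨(⟨x, hx⟩, ⟨y, hy⟩), rfl⟩

theorem card_J_empty {a b : ℤ} (h : b < a) : Nat.card (J S.XZ a b) = 1 := by
  rw [J_empty h, Subgroup.card_bot]

theorem card_Q : Nat.card S.Q = Nat.card F ^ 10 := by
  show Nat.card (J S.XZ 1 7) = _
  have h1 := card_odd S 0
  have h2 := card_even S 1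
  have h3 := card_odd S 1
  have h4 := card_even S 2
  have h5 := card_odd S 2
  have h6 := card_even S 3
  have h7 := card_odd S 3
  norm_num only [] at h1 h2 h3 h4 h5 h6 h7
  rw [card_J_succ S (by norm_num) (by norm_num), card_J_succ S (by norm_num) (by norm_num),
    card_J_succ S (by norm_num) (by norm_num), card_J_succ S (by norm_num) (by norm_num),
    card_J_succ S (by norm_num) (by norm_num), card_J_succ S (by norm_num) (by norm_num),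
    card_J_succ S (by norm_num) (by norm_num), card_J_empty S (by norm_num)]
  norm_num only [_root_.mul_one]
  rw [h1, h2, h3, h4, h5, h6, h7]
  ring

theorem card_U : Nat.card (J S.XZ 1 8) = Nat.card F ^ 12 := by
  have h1 := card_odd S 0
  have h2 := card_even S 1
  have h3 := card_odd S 1
  have h4 := card_even S 2
  have h5 := card_odd S 2
  have h6 := card_even S 3
  have h7 := card_odd S 3
  have h8 := card_even S 4
  norm_num only [] at h1 h2 h3 h4 h5 h6 h7 h8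
  rw [card_J_succ S (by norm_num) (by norm_num), card_J_succ S (by norm_num) (by norm_num),
    card_J_succ S (by norm_num) (by norm_num), card_J_succ S (by norm_num) (by norm_num),
    card_J_succ S (by norm_num) (by norm_num), card_J_succ S (by norm_num) (by norm_num),
    card_J_succ S (by norm_num) (by norm_num), card_J_succ S (by norm_num) (by norm_num),
    card_J_empty S (by norm_num)]
  norm_num only [_root_.mul_one]
  rw [h1, h2, h3, h4, h5, h6, h7, h8]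
  ring

theorem card_Zc (a : ZMod 8) : Nat.card (S.Zc a) = Nat.card F := by
  symm
  refine Nat.card_congr (Equiv.ofBijective (fun u : F => (⟨S.e a 0 u, ⟨u, rfl⟩⟩ : S.Zc a)) ?_)
  constructor
  · intro u v h
    exact (S.injE _ _ _ _ _ (congrArg Subtype.val h)).2
  · rintro ⟨x, hx⟩
    obtain ⟨u, hu⟩ := hx
    exact ⟨u, Subtype.ext hu⟩

theorem card_W46 : Nat.card S.W46 = Nat.card F ^ 2 := by
  rw [pow_two, ← Nat.card_prod]
  symm
  refine Nat.card_congr (Equiv.ofBijective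
    (fun w : F × F => (⟨S.e 2 0 w.1 * S.e 3 0 w.2, ⟨w.1, w.2, rfl⟩⟩ : S.W46)) ?_)
  constructor
  · rintro ⟨u, v⟩ ⟨u', v'⟩ h
    have h1 : S.e 2 0 u * S.e 3 0 v = S.e 2 0 u' * S.e 3 0 v' := congrArg Subtype.val h
    have Z8 := S.zsys8
    have h2 : (S.e 2 0 u')⁻¹ * S.e 2 0 u = S.e 3 0 v' * (S.e 3 0 v)⁻¹ := by
      rw [inv_mul_eq_iff_eq_mul, ← mul_assoc, ← h1, mul_inv_cancel_right]
    have h3 : (S.e 2 0 u')⁻¹ * S.e 2 0 u = 1 := by
      refine Z8.inter 4 _ (mul_mem (inv_mem (S.mX4 0 u')) (S.mX4 0 u)) ?_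
      rw [h2]
      exact mem_J (mul_mem (S.mX6 0 v') (inv_mem (S.mX6 0 v))) (by norm_num) (by norm_num)
    rw [inv_mul_eq_one] at h3
    have h4 := (S.injE _ _ _ _ _ h3).2
    subst h4
    have h5 := (S.injE _ _ _ _ _ (mul_left_cancel h1)).2
    rw [h5]
  · rintro ⟨x, hx⟩
    obtain ⟨u, v, hu⟩ := hx
    exact ⟨(u, v), Subtype.ext hu⟩

theorem card_Q2_le : Nat.card S.Q2 ≤ Nat.card F ^ 5 := by
  have h : Nat.card (F × F × F × F × F) = Nat.card F ^ 5 := by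
    simp only [Nat.card_prod]; ring
  rw [← h]
  refine Nat.card_le_card_of_surjective
    (fun w : F × F × F × F × F => (⟨q2 S w.1 w.2.1 w.2.2.1 w.2.2.2.1 w.2.2.2.2,
      (mem_Q2 S).2 ⟨_, _, _, _, _, rfl⟩⟩ : S.Q2)) ?_
  rintro ⟨x, hx⟩
  obtain ⟨u, s, z, t, w, hw⟩ := (mem_Q2 S).1 hx
  exact ⟨(u, s, z, t, w), Subtype.ext hw⟩

theorem card_T : Nat.card S.T = (Nat.card F - 1) ^ 2 := by
  have h : Nat.card Fˣ = Nat.card F - 1 := Nat.card_units F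
  rw [pow_two, ← h, ← Nat.card_prod]
  symm
  refine Nat.card_congr (Equiv.ofBijective
    (fun w : Fˣ × Fˣ => (⟨S.h w.1 w.2, S.mem_T.2 ⟨_, _, rfl⟩⟩ : S.T)) ?_)
  constructor
  · rintro ⟨c, d⟩ ⟨c', d'⟩ h
    obtain ⟨h1, h2⟩ := S.h_inj _ _ _ _ (congrArg Subtype.val h)
    exact Prod.ext h1 h2
  · rintro ⟨x, hx⟩
    obtain ⟨c, d, hw⟩ := S.mem_T.1 hx
    exact ⟨(c, d), Subtype.ext hw⟩

/-- the normaliser of `Z_4` -/
def P : Subgroup G := Subgroup.normalizer (S.Zc 2 : Set G)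

theorem e201 : S.e 2 0 1 ∈ S.Zc 2 ∧ S.e 2 0 1 ≠ 1 :=
  ⟨⟨1, rfl⟩, fun h => one_ne_zero (S.e_eq_one h).2⟩

theorem PL_le_P : S.PL ≤ P S := by
  intro g hg
  show g ∈ Subgroup.normalizer (S.Zc 2 : Set G)
  rw [Subgroup.mem_normalizer_iff]
  intro z
  constructor
  · intro hz
    rw [S.comm_PL hg hz, mul_inv_cancel_right]; exact hz
  · intro hz
    have h1 := S.comm_PL (inv_mem hg) hz
    have h2 : z = g⁻¹ * (g * z * g⁻¹) * g⁻¹⁻¹ := by group
    rw [h2, h1, mul_inv_cancel_right]; exact hz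

theorem T_le_P : S.T ≤ P S := by
  intro t ht
  show t ∈ Subgroup.normalizer (S.Zc 2 : Set G)
  rw [Subgroup.mem_normalizer_iff]
  intro z
  constructor
  · intro hz
    exact S.T_conj_Zc ht hz
  · intro hz
    have := S.T_conj_Zc (inv_mem ht) hz
    have h2 : t⁻¹ * (t * z * t⁻¹) * t⁻¹⁻¹ = z := by group
    rwa [h2] at this

theorem mem_P_of {z g : G} (hz : z ∈ S.Zc 2) (hz1 : z ≠ 1) (hg : g * z * g⁻¹ ∈ S.Zc 2) : g ∈ P S := by
  obtain ⟨y, hy, t, ht, rfl⟩ := S.mem_of_conj hz hz1 hg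
  exact mul_mem (PL_le_P S hy) (T_le_P S ht)

theorem form_P {g : G} (hg : g ∈ P S) : (∃ b ∈ J S.XZ 1 8, ∃ t ∈ S.T, g = b * t) ∨
    ∃ b ∈ J S.XZ 1 8, ∃ t ∈ S.T, ∃ x ∈ S.XZ 8, g = b * (t * S.n2) * x := by
  have Z8 := S.zsys8
  obtain ⟨hz, hz1⟩ := e201 S
  have hg' : g * S.e 2 0 1 * g⁻¹ ∈ S.Zc 2 := (Subgroup.mem_normalizer_iff.1 hg _).1 hz
  obtain ⟨y, hy, t, ht, rfl⟩ := S.mem_of_conj hz hz1 hg'
  rcases S.form_PL hy with ⟨b, hb, s, hs, rfl⟩ | ⟨b, hb, s, hs, x, hx, rfl⟩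
  · exact Or.inl ⟨b, hb, s * t, mul_mem hs ht, by group⟩
  · right
    -- `b s n2 x t = b (s (n2 t n2⁻¹)) n2 (t⁻¹ x t)`
    have hn : S.n2 * t * S.n2⁻¹ ∈ S.T := by
      obtain ⟨c, d, rfl⟩ := S.mem_T.1 ht
      rw [S.n2_h]
      exact S.mem_T.2 ⟨_, _, rfl⟩
    refine ⟨b, hb, s * (S.n2 * t * S.n2⁻¹), mul_mem hs hn, t⁻¹ * x * t, ?_, by group⟩
    exact S.T_conj' ht 8 hx

theorem n2X_notMem {b t x : G} (hb : b ∈ J S.XZ 1 8) (ht : t ∈ S.T) (hx : x ∈ S.XZ 8) {b' t' : G}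
    (hb' : b' ∈ J S.XZ 1 8) (ht' : t' ∈ S.T) (h : b' * t' = b * (t * S.n2) * x) : False := by
  have Z8 := S.zsys8
  -- `n2 ∈ U T`
  have h1 : S.n2 = (t⁻¹ * (b⁻¹ * b') * t) * (t⁻¹ * t' * x⁻¹ * t'⁻¹ * t) * (t⁻¹ * t') := by
    have h2 : S.n2 = t⁻¹ * (b⁻¹ * (b * (t * S.n2) * x)) * x⁻¹ := by group
    rw [← h] at h2
    rw [h2]; group
  have hx' : x ∈ J S.XZ 1 8 := mem_J hx (by norm_num) (by norm_num)
  have h3 : t⁻¹ * (b⁻¹ * b') * t ∈ J S.XZ 1 8 := by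
    have := S.T_conj_J (inv_mem ht) (mul_mem (inv_mem hb) hb')
    rwa [inv_inv] at this
  have h4 : t⁻¹ * t' * x⁻¹ * t'⁻¹ * t ∈ J S.XZ 1 8 := by
    have := S.T_conj_J (mul_mem (inv_mem ht) ht') (inv_mem hx')
    have e : t⁻¹ * t' * x⁻¹ * (t⁻¹ * t')⁻¹ = t⁻¹ * t' * x⁻¹ * t'⁻¹ * t := by group
    rwa [e] at this
  -- `n2 X_8 n2⁻¹ = X_0`, but `U T` normalises `U`
  have h5 : ∀ y ∈ J S.XZ 1 8, S.n2 * y * S.n2⁻¹ ∈ J S.XZ 1 8 := by
    intro y hy
    rw [h1]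
    have h6 := S.T_conj_J (mul_mem (inv_mem ht) ht') hy
    set u := t⁻¹ * (b⁻¹ * b') * t * (t⁻¹ * t' * x⁻¹ * t'⁻¹ * t) with hu
    have h7 : u ∈ J S.XZ 1 8 := mul_mem h3 h4
    have e : u * (t⁻¹ * t') * y * (u * (t⁻¹ * t'))⁻¹ = u * ((t⁻¹ * t') * y * (t⁻¹ * t')⁻¹) * u⁻¹ := by group
    rw [e]
    exact mul_mem (mul_mem h7 h6) (inv_mem h7)
  have h6 := h5 (S.e 4 1 0) (mem_J (S.mX8 1 0) (by norm_num) (by norm_num))
  have h7 : S.n2 * S.e 4 1 0 * S.n2⁻¹ ∈ S.XZ 0 := by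
    rw [S.n2_e]
    have := S.e_mem 0 1 0
    push_cast at this
    simpa using this
  have h8 : S.n2 * S.e 4 1 0 * S.n2⁻¹ = 1 := by
    have := S.J07_inf_UT (x := S.n2 * S.e 4 1 0 * S.n2⁻¹) (u := S.n2 * S.e 4 1 0 * S.n2⁻¹) (t := 1) h7 h6
      (one_mem _) (by rw [mul_one])
    exact this.1
  rw [mul_inv_eq_one, mul_eq_left] at h8
  exact one_ne_zero (S.e_eq_one h8).1

theorem card_P [Finite G] : Nat.card (P S) = Nat.card F ^ 12 * (Nat.card F - 1) ^ 2 * (Nat.card F ^ 2 + 1) := by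
  have h8 := card_even S 4
  norm_num only [] at h8
  rw [mul_add, mul_one, ← h8, ← card_U S, ← card_T S, ← Nat.card_prod, ← Nat.card_prod, ← Nat.card_sum]
  symm
  have hn2 : S.n2 ∈ P S := PL_le_P S S.n2_mem
  have hU : J S.XZ 1 8 ≤ P S := (J_mono (by norm_num) le_rfl).trans (PL_le_P S)
  have hX : S.XZ 8 ≤ P S := (X_le_J (by norm_num) le_rfl).trans hU
  refine Nat.card_congr (Equiv.ofBijective (fun w : ((J S.XZ 1 8 × S.T) × S.XZ 8) ⊕ (J S.XZ 1 8 × S.T) =>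
    Sum.elim (fun w => (⟨(w.1.1 : G) * (w.1.2 * S.n2) * w.2,
      mul_mem (mul_mem (hU w.1.1.2) (mul_mem (T_le_P S w.1.2.2) hn2)) (hX w.2.2)⟩ : P S))
      (fun w => (⟨(w.1 : G) * w.2, mul_mem (hU w.1.2) (T_le_P S w.2.2)⟩ : P S)) w) ?_)
  constructor
  · rintro (⟨⟨b, t⟩, x⟩ | ⟨b, t⟩) (⟨⟨b', t'⟩, x'⟩ | ⟨b', t'⟩) h
    · have h1 : (b : G) * (t * S.n2) * x = b' * (t' * S.n2) * x' := congrArg Subtype.val h
      obtain ⟨e1, e2, e3⟩ := S.form_unique b.2 t.2 x.2 b'.2 t'.2 x'.2 h1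
      rw [Subtype.ext e1, Subtype.ext e2, Subtype.ext e3]
    · exfalso
      have h1 : (b : G) * (t * S.n2) * x = b' * t' := congrArg Subtype.val h
      exact n2X_notMem S b.2 t.2 x.2 b'.2 t'.2 h1.symm
    · exfalso
      have h1 : (b : G) * t = b' * (t' * S.n2) * x' := congrArg Subtype.val h
      exact n2X_notMem S b'.2 t'.2 x'.2 b.2 t.2 h1
    · have h1 : (b : G) * t = b' * t' := congrArg Subtype.val h
      have h2 : (b' : G)⁻¹ * b = t' * (t : G)⁻¹ := by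
        rw [inv_mul_eq_iff_eq_mul, ← mul_assoc, ← h1, mul_inv_cancel_right]
      have h3 : (t' : G) * (t : G)⁻¹ = 1 :=
        S.U_inf_T (mul_mem t'.2 (inv_mem t.2)) (by rw [← h2]; exact mul_mem (inv_mem b'.2) b.2)
      have h4 : t = t' := Subtype.ext (mul_inv_eq_one.1 h3).symm
      subst h4
      have h5 : b = b' := Subtype.ext (mul_right_cancel h1)
      rw [h5]
  · rintro ⟨g, hg⟩
    rcases form_P S hg with ⟨b, hb, t, ht, rfl⟩ | ⟨b, hb, t, ht, x, hx, rfl⟩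
    · exact ⟨Sum.inr (⟨b, hb⟩, ⟨t, ht⟩), rfl⟩
    · exact ⟨Sum.inl ((⟨b, hb⟩, ⟨t, ht⟩), ⟨x, hx⟩), rfl⟩

end Cfsg.Agent.H392.TwFFour
end

-- part: H392/TwFFour/Bound
section
set_option linter.all false
open scoped Cfsg.Agent.FastGrp

/-!
# `²F₄(q)`: a subgroup of `Q = O_2(C(Z_4))` meeting `Z_4` trivially has order at most `q⁴`
-/

set_option autoImplicit false
set_option linter.unusedSectionVars false

open scoped commutatorElement

namespace Cfsg.Agent.H392.TwFFour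

open Cfsg.Agent.SplitTwo Cfsg.Agent.SplitTwo.ZS Cfsg.Agent.TitsThree.RankTwoZ Cfsg.Agent.KFacts.TwF4
open Cfsg.Agent.KFacts.TwF4.Arc Cfsg.Agent.KFacts.TwF4.Irr

universe u

variable {F : Type*} [Field F] [Finite F] {σ : F →+* F} {G : Type u} [Group G] (S : Full σ G)

/-- `[a, n] = z_4(c)` -/
def Cm (a n : G) (c : F) : Prop := a * n = n * a * S.e 2 0 c

theorem z_comm {a : G} (ha : a ∈ S.PL) (c : F) : a * S.e 2 0 c = S.e 2 0 c * a := S.comm_PL ha ⟨c, rfl⟩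

theorem Cm.mul_left {a a' n : G} {c c' : F} (ha' : a' ∈ S.PL) (h : Cm S a n c) (h' : Cm S a' n c') :
    Cm S (a * a') n (c + c') := by
  unfold Cm at *
  calc a * a' * n = a * (n * a' * S.e 2 0 c') := by rw [mul_assoc, h']
    _ = (n * a * S.e 2 0 c) * (a' * S.e 2 0 c') := by rw [← h]; group
    _ = n * a * (S.e 2 0 c * a') * S.e 2 0 c' := by group
    _ = n * (a * a') * (S.e 2 0 c * S.e 2 0 c') := by rw [← z_comm S ha']; group
    _ = n * (a * a') * S.e 2 0 (c + c') := by rw [z_add]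

theorem Cm.mul_right {a n n' : G} {c c' : F} (hn' : n' ∈ S.PL) (h : Cm S a n c) (h' : Cm S a n' c') :
    Cm S a (n * n') (c + c') := by
  unfold Cm at *
  calc a * (n * n') = (a * n) * n' := by group
    _ = n * a * (S.e 2 0 c * n') := by rw [h]; group
    _ = n * (a * n') * S.e 2 0 c := by rw [← z_comm S hn']; group
    _ = (n * n') * a * (S.e 2 0 c' * S.e 2 0 c) := by rw [h']; group
    _ = (n * n') * a * S.e 2 0 (c + c') := by rw [z_add, add_comm]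

theorem Cm.of_comm {a n : G} (h : a * n = n * a) : Cm S a n 0 := by
  unfold Cm
  rw [S.e_zero, mul_one]; exact h

theorem Cm.swap {a n : G} {c : F} (ha : a ∈ S.PL) (hn : n ∈ S.PL) (h : n * a = a * n * S.e 2 0 c) : Cm S a n c := by
  unfold Cm
  rw [h, mul_assoc, z_add, char2 S, S.e_zero, mul_one]

theorem cm_ge {a n : G} {c : F} (h : Cm S a n c) (hn : n ∈ S.PL) (ha : a ∈ S.PL) : ⁅a, n⁆ = S.e 2 0 c := by
  unfold Cm at h
  rw [commutatorElement_def, h]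
  have h1 := z_comm S (mul_mem (inv_mem ha) (inv_mem hn)) c
  calc n * a * S.e 2 0 c * a⁻¹ * n⁻¹ = n * a * (S.e 2 0 c * (a⁻¹ * n⁻¹)) := by group
    _ = S.e 2 0 c := by rw [← h1]; group

theorem Q2_PL {n : G} (hn : n ∈ S.Q2) : n ∈ S.PL := J_mono (by norm_num) (by norm_num) (S.Q2_le_J hn)

theorem mulx (u s z t w : F) {a : G} {c1 c2 c3 c4 c5 : F} (h1 : Cm S a (S.e 1 0 u) c1) (h2 : Cm S a (S.o 1 s) c2)
    (h3 : Cm S a (S.e 2 0 z) c3) (h4 : Cm S a (S.o 2 t) c4) (h5 : Cm S a (S.e 3 0 w) c5) :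
    Cm S a (q2 S u s z t w) (c1 + c2 + c3 + c4 + c5) := by
  unfold q2
  exact (((h1.mul_right S (Q2_PL S (S.q2_2 _)) h2).mul_right S (Q2_PL S (S.q2_3 _)) h3).mul_right S
    (Q2_PL S (S.q2_4 _)) h4).mul_right S (Q2_PL S (S.q2_5 _)) h5

/-- The commutators of the elements of `Q` with those of `Q2`. -/
theorem cm_Q {a : G} (ha : a ∈ S.Q) : ∃ t p r s : F,
    (∀ u' s' z' t' w' : F, Cm S a (q2 S u' s' z' t' w') (t * w' + p * t' + r * s' + s * u')) ∧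
    (t = 0 → p = 0 → r = 0 → s = 0 → a ∈ S.Q1) := by
  obtain ⟨t, p, u, m, hm, r, w, s, rfl⟩ := form_Q S ha
  have hz : ∀ {x : G}, x ∈ S.Q → ∀ z, Cm S x (S.e 2 0 z) 0 := fun hx z => Cm.of_comm S (z_comm S (Q_PL S hx) z)
  refine ⟨t, p, r, s, ?_, ?_⟩
  · intro u' s' z' t' w'
    have h1 : Cm S (S.o 0 t) (q2 S u' s' z' t' w') (0 + 0 + 0 + 0 + t * w') := by
      refine mulx S _ _ _ _ _ (Cm.of_comm S (S.o_e1 0 t 0 u')) (Cm.of_comm S (S.o_o1 0 t s')) (hz (o0_Q S t) _)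
        (Cm.of_comm S (S.o_o2 0 t t')) ?_
      have h := S.o_e3 0 t 0 w'
      simp only [map_zero, mul_zero, zero_mul, S.e_zero, S.o_zero, mul_one, zero_add] at h
      exact h
    have h2 : Cm S (S.e 1 p u) (q2 S u' s' z' t' w') (0 + 0 + 0 + p * t' + 0) := by
      refine mulx S _ _ _ _ _ (Cm.of_comm S ?_) (Cm.of_comm S (S.e_o0 1 p u s')) (hz (e1_Q S p u) _)
        ?_ (Cm.of_comm S (S.e_e2 1 p u 0 w'))
      · rw [S.e_mul, S.e_mul]
        simp only [map_zero, mul_zero, zero_mul, add_zero, zero_add]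
        rw [add_comm]
      · exact S.e_o1 1 p u t'
    have h3 : Cm S m (q2 S u' s' z' t' w') 0 := Cm.of_comm S (S.Q1_comm hm ((mem_Q2 S).2 ⟨_, _, _, _, _, rfl⟩))
    have h4 : Cm S (S.e 3 r w) (q2 S u' s' z' t' w') (0 + r * s' + 0 + 0 + 0) := by
      refine mulx S _ _ _ _ _ (Cm.of_comm S (S.e_e2 1 0 u' r w).symm) ?_ (hz (e3_Q S r w) _)
        (Cm.of_comm S (S.o_e1 2 t' r w).symm) (Cm.of_comm S ?_)
      · refine Cm.swap S (Q_PL S (e3_Q S r w)) (Q2_PL S (S.q2_2 _)) ?_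
        have h := S.o_e2 1 s' r w
        rw [mul_comm r s']
        exact h
      · rw [S.e_mul, S.e_mul]
        simp only [map_zero, mul_zero, zero_mul, add_zero, zero_add]
        rw [add_comm]
    have h5 : Cm S (S.o 3 s) (q2 S u' s' z' t' w') (s * u' + 0 + 0 + 0 + 0) := by
      refine mulx S _ _ _ _ _ ?_ (Cm.of_comm S (S.o_o2 1 s' s).symm) (hz (o3_Q S s) _)
        (Cm.of_comm S (S.o_o1 2 t' s).symm) (Cm.of_comm S (S.e_o0 3 0 w' s).symm)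
      refine Cm.swap S (Q_PL S (o3_Q S s)) (Q2_PL S (S.q2_1 _)) ?_
      have h := S.e_o2 1 0 u' s
      simp only [map_zero, mul_zero, zero_mul, S.e_zero, S.o_zero, mul_one, zero_add] at h
      rw [mul_comm s u']
      exact h
    have hmP : m ∈ S.PL := Q_PL S (Q1_le_Q S hm)
    have h6 := h1.mul_left S (mul_mem (Q_PL S (e1_Q S p u)) (mul_mem hmP (mul_mem (Q_PL S (e3_Q S r w))
      (Q_PL S (o3_Q S s))))) (h2.mul_left S (mul_mem hmP (mul_mem (Q_PL S (e3_Q S r w))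
      (Q_PL S (o3_Q S s)))) (h3.mul_left S (mul_mem (Q_PL S (e3_Q S r w))
      (Q_PL S (o3_Q S s))) (h4.mul_left S (Q_PL S (o3_Q S s)) h5)))
    have e : 0 + 0 + 0 + 0 + t * w' + (0 + 0 + 0 + p * t' + 0 + (0 + (0 + r * s' + 0 + 0 + 0 +
        (s * u' + 0 + 0 + 0 + 0)))) = t * w' + p * t' + r * s' + s * u' := by ring
    rw [e] at h6
    exact h6
  · intro ht hp hr hs
    rw [ht, hp, hr, hs, S.o_zero, S.o_zero, one_mul, mul_one]
    exact mul_mem (Q2_le_Q1 S (S.q2_1 u)) (mul_mem hm (Q2_le_Q1 S (S.q2_5 w)))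

/-- `Q1 \\ Q2` consists of elements with square in `Z_4`, not 1. -/
theorem Q1_sq {x : G} (hx : x ∈ S.Q1) : ∃ p u, ∃ y ∈ S.Q2, x = S.e 2 p u * y ∧ x * x = S.e 2 0 (p * σ p) := by
  obtain ⟨a, ha, y, hy, rfl⟩ := mem_sup_of_norm (A := S.XZ 4) (B := S.Q2) (fun a ha b hb => by
    have h := S.Q1_comm (x := a) (Subgroup.mem_sup_left ha) hb
    rw [h, mul_inv_cancel_right]; exact hb) hx
  obtain ⟨p, u, rfl⟩ := (mem_X4 S).1 ha
  refine ⟨p, u, y, hy, rfl, ?_⟩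
  have h1 := S.Q1_comm (x := S.e 2 p u) (Subgroup.mem_sup_left ha) hy
  have h2 : y * y = 1 := by
    obtain ⟨a, b, c, d, e, rfl⟩ := (mem_Q2 S).1 hy
    rw [q2_mul, char2 S, char2 S, char2 S, char2 S, char2 S, q2_zero]
  calc S.e 2 p u * y * (S.e 2 p u * y) = S.e 2 p u * (y * S.e 2 p u) * y := by group
    _ = (S.e 2 p u * S.e 2 p u) * (y * y) := by rw [← h1]; group
    _ = S.e 2 0 (p * σ p) := by rw [h2, mul_one, e_sq]

/-- **The bound.** -/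
theorem card_le [Finite G] {A : Subgroup G} (hA : A ≤ S.Q) (hAZ : A ⊓ S.Zc 2 = ⊥) :
    Nat.card A ≤ Nat.card F ^ 4 := by
  obtain ⟨hz, hz1⟩ := e201 S
  have hZc : ∀ x ∈ S.Zc 2, ∀ y ∈ S.PL, x * y = y * x := fun x hx y hy => (S.comm_PL hy hx).symm
  have hZPL : S.Zc 2 ≤ S.PL := by
    rintro _ ⟨z, rfl⟩
    exact Q2_PL S (S.q2_3 z)
  obtain ⟨l, hl⟩ := LongRoot.exists_char (S.Zc 2) (fun x hx y hy => hZc x hx y (hZPL hy)) _ hz hz1
  have hcomm : ∀ a ∈ A, ∀ n ∈ S.Q2, ⁅a, n⁆ ∈ S.Zc 2 := by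
    intro a ha n hn
    obtain ⟨t, p, r, s, h, -⟩ := cm_Q S (hA ha)
    obtain ⟨u', s', z', t', w', rfl⟩ := (mem_Q2 S).1 hn
    rw [cm_ge S (h u' s' z' t' w') (Q2_PL S hn) (Q_PL S (hA ha))]
    exact ⟨_, rfl⟩
  -- `A ∩ Q1 = A ∩ Q2`
  have hA12 : A ⊓ S.Q1 = A ⊓ S.Q2 := by
    apply le_antisymm
    · rintro x ⟨hxA, hx1⟩
      refine ⟨hxA, ?_⟩
      obtain ⟨p, u, y, hy, hxy, hxx⟩ := Q1_sq S hx1
      have h1 : x * x ∈ A ⊓ S.Zc 2 := ⟨mul_mem hxA hxA, by rw [hxx]; exact ⟨_, rfl⟩⟩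
      rw [hAZ, Subgroup.mem_bot, hxx] at h1
      have h2 := (S.e_eq_one h1).2
      have hp : p = 0 := by
        rcases mul_eq_zero.1 h2 with h | h
        · exact h
        · exact (map_eq_zero σ).1 h
      rw [hxy, hp]
      exact mul_mem (S.q2_3 u) hy
    · exact inf_le_inf_left _ (Q2_le_Q1 S)
  have hBle : (A ⊓ S.Q2) ⊔ S.Zc 2 ≤ S.Q2 := sup_le inf_le_right (by
    rintro _ ⟨z, rfl⟩
    exact S.q2_3 z)
  have hcZ : ∀ a ∈ A, ∀ b ∈ (A ⊓ S.Q2) ⊔ S.Zc 2, ⁅a, b⁆ = 1 := by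
    intro a ha b hb
    have hle : (A ⊓ S.Q2) ⊔ S.Zc 2 ≤ Subgroup.centralizer {a} := by
      apply sup_le
      · intro c hc
        rw [Subgroup.mem_centralizer_singleton_iff]
        have h1 : ⁅a, c⁆ ∈ A ⊓ S.Zc 2 := by
          refine ⟨?_, hcomm a ha c hc.2⟩
          rw [commutatorElement_def]
          exact A.mul_mem (A.mul_mem (A.mul_mem ha hc.1) (A.inv_mem ha)) (A.inv_mem hc.1)
        rw [hAZ, Subgroup.mem_bot, commutatorElement_eq_one_iff_mul_comm] at h1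
        exact h1.symm
      · intro x hx
        rw [Subgroup.mem_centralizer_singleton_iff]
        exact hZc x hx a (Q_PL S (hA ha))
    have h2 := Subgroup.mem_centralizer_singleton_iff.1 (hle hb)
    exact commutatorElement_eq_one_iff_mul_comm.2 h2.symm
  have hpair := LongRoot.pairing A S.Q2 (S.Zc 2) ((A ⊓ S.Q2) ⊔ S.Zc 2) S.Q1 hcomm
    (fun x hx a ha => hZc x hx a (Q_PL S (hA ha))) (fun x hx n hn => hZc x hx n (Q2_PL S hn)) l hBle (by
      intro a ha b hb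
      have h1 := hcZ a ha b hb
      have : (⟨⁅a, b⁆, hcomm a ha b (hBle hb)⟩ : S.Zc 2) = 1 := Subtype.ext h1
      rw [this, map_one]) (by
      intro a ha h
      obtain ⟨t, p, r, s, hc, hq⟩ := cm_Q S (hA ha)
      have key : ∀ u' s' z' t' w' : F, t * w' + p * t' + r * s' + s * u' ≠ 1 := by
        intro u' s' z' t' w' he
        have h1 := h (q2 S u' s' z' t' w') ((mem_Q2 S).2 ⟨_, _, _, _, _, rfl⟩)
        apply hl
        rw [← h1]
        congr 1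
        apply Subtype.ext
        show S.e 2 0 1 = ⁅a, q2 S u' s' z' t' w'⁆
        rw [cm_ge S (hc u' s' z' t' w') (Q2_PL S ((mem_Q2 S).2 ⟨_, _, _, _, _, rfl⟩)) (Q_PL S (hA ha)), he]
      refine hq ?_ ?_ ?_ ?_
      · by_contra h0
        exact key 0 0 0 0 t⁻¹ (by rw [mul_inv_cancel₀ h0]; ring)
      · by_contra h0
        exact key 0 0 0 p⁻¹ 0 (by rw [mul_inv_cancel₀ h0]; ring)
      · by_contra h0
        exact key 0 r⁻¹ 0 0 0 (by rw [mul_inv_cancel₀ h0]; ring)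
      · by_contra h0
        exact key s⁻¹ 0 0 0 0 (by rw [mul_inv_cancel₀ h0]; ring))
  rw [hA12] at hpair
  -- `|B| ≥ |A ∩ Q2| q`
  have hB : Nat.card (A ⊓ S.Q2 : Subgroup G) * Nat.card F ≤ Nat.card ((A ⊓ S.Q2) ⊔ S.Zc 2 : Subgroup G) := by
    rw [← card_Zc S 2, ← Nat.card_prod]
    refine Nat.card_le_card_of_injective (fun w : (A ⊓ S.Q2 : Subgroup G) × S.Zc 2 =>
      (⟨(w.1 : G) * w.2, ?_⟩ : ((A ⊓ S.Q2) ⊔ S.Zc 2 : Subgroup G))) ?_
    · exact mul_mem (Subgroup.mem_sup_left w.1.2) (Subgroup.mem_sup_right w.2.2)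
    · rintro ⟨a, x⟩ ⟨b, y⟩ h
      have h3 : (a : G) * x = b * y := congrArg (fun w : ((A ⊓ S.Q2) ⊔ S.Zc 2 : Subgroup G) => (w : G)) h
      have h4 : (b : G)⁻¹ * a = y * (x : G)⁻¹ := by
        rw [inv_mul_eq_iff_eq_mul, ← mul_assoc, ← h3, mul_inv_cancel_right]
      have h5 : (b : G)⁻¹ * a ∈ A ⊓ S.Zc 2 :=
        ⟨A.mul_mem (A.inv_mem b.2.1) a.2.1, by rw [h4]; exact (S.Zc 2).mul_mem y.2 ((S.Zc 2).inv_mem x.2)⟩
      rw [hAZ, Subgroup.mem_bot] at h5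
      have h6 : a = b := Subtype.ext (by rw [inv_mul_eq_one] at h5; exact h5.symm)
      rw [h5] at h4
      have h7 : x = y := Subtype.ext (mul_inv_eq_one.1 h4.symm).symm
      rw [h6, h7]
  have h1 : Nat.card A * (Nat.card (A ⊓ S.Q2 : Subgroup G) * Nat.card F) ≤
      Nat.card (A ⊓ S.Q2 : Subgroup G) * Nat.card F ^ 5 :=
    (Nat.mul_le_mul_left _ hB).trans (hpair.trans (Nat.mul_le_mul_left _ (card_Q2_le S)))
  have hpos : 0 < Nat.card (A ⊓ S.Q2 : Subgroup G) := Nat.card_pos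
  have hF : 0 < Nat.card F := Nat.card_pos
  have h2 : (Nat.card (A ⊓ S.Q2 : Subgroup G) * Nat.card F) * Nat.card A ≤
      (Nat.card (A ⊓ S.Q2 : Subgroup G) * Nat.card F) * Nat.card F ^ 4 := by
    calc (Nat.card (A ⊓ S.Q2 : Subgroup G) * Nat.card F) * Nat.card A
        = Nat.card A * (Nat.card (A ⊓ S.Q2 : Subgroup G) * Nat.card F) := by ring
      _ ≤ Nat.card (A ⊓ S.Q2 : Subgroup G) * Nat.card F ^ 5 := h1
      _ = _ := by ring
  exact Nat.le_of_mul_le_mul_left h2 (Nat.mul_pos hpos hF)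

end Cfsg.Agent.H392.TwFFour
end
end
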