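import Mathlib
import Cfsg.Agent.H249.OfRGD
import Cfsg.Agent.H353.TwoLong_m3
import Cfsg.Agent.H392.TwFFour.Bound
import Cfsg.Agent.KFacts.TwF4.Layers
import Cfsg.Agent.KFacts.TwF4.AutNorm
import Cfsg.Agent.H384.TwoTrans
import Cfsg.Agent.S1068
import Cfsg.Agent.OddHalf.Known
import Cfsg.Agent.H318.SixTwF
import Cfsg.Agent.FastGrp
import Cfsg.Agent.Prune
set_option linter.all false

section
prune_inst 0x7ffcfef8afb9bddfdfff7e7ffed9dffe39d5dfffffdfff43fffee1ff8fdf030a3de5fb8d1de058ff0ef7e2b430b87853fb7eefffef6bdc7ffffd5ff45ffbee1fe5f7bf8951d68c340fbc0fff63f07fce7f3fffffffffffffffffffffffffffbeffffffffffff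

-- part: H249/TheoremD
section
set_option linter.all false
open scoped Cfsg.Agent.FastGrp

/-!
# Theorem D for 2-transitive groups with non-abelian socle (helper249, HUB H1, P1a)

`A : AS G Ω T`, `e : Y ≃* T`, `R` a root group datum of characteristic `p` on `Y`, generated by the root groups and
the torus, with the non-simple positive root groups in `[U, U]` (`CommGen`); `p ∣ |Ω|`.
Then the Borel subgroup `B` of `Y` is transitive on `Ω` (`borel_transitive`), and for every `N` normalised by `B` the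
number `|N ∩ T_x|` does not depend on `x` (`card_fix_eq`).
-/

set_option autoImplicit false
set_option linter.unusedSectionVars false

namespace Cfsg.Agent.H249.TheoremD

open CoxeterSystem Cfsg.Agent.ChevalleyStructure.CoxeterGeom Cfsg.Agent.Tits.Roots Cfsg.Agent.Tits.Core
  Cfsg.Agent.Tits.Exchange Cfsg.Agent.Nodes.Reps Cfsg.Agent.Nodes.BNOf Cfsg.Agent.Nodes.StabComb
  Cfsg.Agent.Nodes.Bruhat
open Cfsg.Agent.Omega.EH3.Kf.Lev (CommGen)
open Cfsg.Agent.H384.TwoTrans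

variable {I W Y : Type*} [Fintype I] [DecidableEq I] [Group W] [Group Y] {M : CoxeterMatrix I}
  {cs : CoxeterSystem M W} {Ac : I → I → ℤ} {h : IsCartan M Ac} {p : ℕ} {Tor : Subgroup Y} {n : I → Y}
  {X : (I → ℤ) → Subgroup Y} {G Ω : Type*} [Group G] [MulAction G Ω] {T : Subgroup G}

/-- **Theorem D** (central kernels allowed): `f : Y → T` onto. -/
theorem borel_transitive_of_surjective (A : AS G Ω T) [Finite Y] [Finite W] (f : Y →* ↥T)
    (hf : Function.Surjective f) (hker : f.ker ≤ RGD.B cs h Tor X)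
    (R : RGD cs h p Tor n X) (hp : p.Prime) (hG : GG cs h Tor X = ⊤) (hC : CommGen cs h X)
    (hdvd : p ∣ Nat.card Ω) (x y : Ω) : ∃ b ∈ RGD.B cs h Tor X, (f b : G) • x = y := by
  have := A.finG
  have := A.finΩ
  have hN := A.normal
  have htr := A.transitive
  have hr : (T.subtype.comp f).range = T := by
    rw [MonoidHom.range_comp, MonoidHom.range_eq_top.2 hf, ← MonoidHom.range_eq_map, Subgroup.range_subtype]
  refine OfRGD.transitive_of_dvd R hp hG hC (T.subtype.comp f) A.two (hr.symm ▸ hN) ?_ ?_ hdvd x y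
  · intro k hk
    refine hker ?_
    rw [MonoidHom.mem_ker] at hk ⊢
    exact Subtype.ext hk
  · intro x y
    obtain ⟨t, ht⟩ := htr.exists_smul_eq x y
    obtain ⟨s, rfl⟩ := hf t
    exact ⟨s, ht⟩

/-- **Theorem D**: the Borel subgroup is transitive. -/
theorem borel_transitive (A : AS G Ω T) [Finite W] (e : Y ≃* ↥T)
    (R : RGD cs h p Tor n X) (hp : p.Prime) (hG : GG cs h Tor X = ⊤) (hC : CommGen cs h X)
    (hdvd : p ∣ Nat.card Ω) (x y : Ω) : ∃ b ∈ RGD.B cs h Tor X, (e b : G) • x = y := by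
  have := A.finG
  have : Finite Y := Finite.of_equiv _ e.symm.toEquiv
  refine borel_transitive_of_surjective A e.toMonoidHom e.surjective ?_ R hp hG hC hdvd x y
  rw [(MonoidHom.ker_eq_bot_iff e.toMonoidHom).2 e.injective]
  exact bot_le

end Cfsg.Agent.H249.TheoremD
end

-- part: H392/TwFFour/DatF
section
prune_inst 0x4000000000000000000000000100000000000000000000000000000000000000000000000000000000000000000000000000000000000000000000000000000000000000000000000000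
set_option linter.all false
open scoped Cfsg.Agent.FastGrp

-- part: H392/TwFFour/Main
section
/-!
# `²F₄(q)`, `q ≥ 8`, has no 2-transitive action in which the Borel subgroup is transitive
-/

set_option autoImplicit false
set_option linter.unusedSectionVars false

open scoped commutatorElement
open MulAction

namespace Cfsg.Agent.H392.TwFFour

open Cfsg.Agent.SplitTwo Cfsg.Agent.SplitTwo.ZS Cfsg.Agent.TitsThree.RankTwoZ Cfsg.Agent.KFacts.TwF4
open Cfsg.Agent.KFacts.TwF4.Arc Cfsg.Agent.KFacts.TwF4.Irr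

universe u

/-- orbit–stabiliser for conjugation -/
theorem card_conj {G : Type*} [Group G] [Finite G] (z : G) (C K : Subgroup G) (hC : Subgroup.centralizer {z} = C)
    (S : Set G) (hS : ∀ x, x ∈ S ↔ ∃ g ∈ K, g * z * g⁻¹ = x) :
    Nat.card S * Nat.card (C ⊓ K : Subgroup G) = Nat.card K := by
  classical
  choose t ht htz using fun x : S => (hS x).1 x.2
  have hCm : ∀ c, c ∈ C ↔ c * z = z * c := fun c => by
    rw [← hC, Subgroup.mem_centralizer_singleton_iff]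
  rw [← Nat.card_prod]
  refine Nat.card_congr (Equiv.ofBijective (fun w : S × (C ⊓ K : Subgroup G) =>
    (⟨t w.1 * w.2, mul_mem (ht w.1) w.2.2.2⟩ : K)) ?_)
  constructor
  · rintro ⟨x, c⟩ ⟨x', c'⟩ h
    have h1 : t x * (c : G) = t x' * c' := congrArg Subtype.val h
    have h2 : ∀ (y : S) (c : (C ⊓ K : Subgroup G)), (t y * (c : G)) * z * (t y * (c : G))⁻¹ = y := by
      intro y c
      have h3 := (hCm c).1 c.2.1
      calc (t y * (c : G)) * z * (t y * (c : G))⁻¹ = t y * ((c : G) * z) * (c : G)⁻¹ * (t y)⁻¹ := by group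
        _ = t y * z * (t y)⁻¹ := by rw [h3]; group
        _ = y := htz y
    have h3 : x = x' := by
      apply Subtype.ext
      rw [← h2 x c, ← h2 x' c', h1]
    subst h3
    have h4 : c = c' := Subtype.ext (mul_left_cancel h1)
    rw [h4]
  · rintro ⟨g, hg⟩
    have hx : g * z * g⁻¹ ∈ S := (hS _).2 ⟨g, hg, rfl⟩
    have h1 : t ⟨_, hx⟩ * z * (t ⟨_, hx⟩)⁻¹ = g * z * g⁻¹ := htz ⟨_, hx⟩
    have h0 : t ⟨_, hx⟩ ∈ K := ht ⟨_, hx⟩
    obtain ⟨u, hu⟩ : ∃ u, u = t ⟨_, hx⟩ := ⟨_, rfl⟩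
    rw [← hu] at h1 h0
    have h2 : u⁻¹ * g ∈ C := by
      rw [hCm]
      calc u⁻¹ * g * z = u⁻¹ * (g * z * g⁻¹) * g := by group
        _ = z * (u⁻¹ * g) := by rw [← h1]; group
    refine ⟨(⟨_, hx⟩, ⟨u⁻¹ * g, h2, K.mul_mem (K.inv_mem h0) hg⟩), ?_⟩
    apply Subtype.ext
    show t ⟨_, hx⟩ * (u⁻¹ * g) = g
    rw [← hu]
    group

variable {F : Type*} [Field F] [Finite F] {σ : F →+* F} {G : Type u} [Group G] (S : Full σ G)

/-- The class of long root elements. -/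
def Cls : Set G := {x | ∃ g : G, ∃ z ∈ S.Zc 2, z ≠ 1 ∧ g * z * g⁻¹ = x}

theorem mem_Cls_iff {x : G} : x ∈ Cls S ↔ ∃ g : G, g * S.e 2 0 1 * g⁻¹ = x := by
  constructor
  · rintro ⟨g, _, ⟨u, rfl⟩, hz1, rfl⟩
    have hu : u ≠ 0 := by
      rintro rfl
      exact hz1 (S.e_zero 2)
    obtain ⟨t, ht, htu⟩ := S.T_trans (u := 1) (v := u) one_ne_zero hu
    exact ⟨g * t, by rw [← htu]; group⟩
  · rintro ⟨g, rfl⟩
    exact ⟨g, _, (e201 S).1, (e201 S).2, rfl⟩

theorem cls_arith0 {a b c d e f x y : ℕ} (ha : 0 < a)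
    (h1 : y * x = a * (c + 1) * (e + 1) * ((d + 1) * b) * (f + 1))
    (h2 : (c + 1) * x = a * (c + 1) ^ 2 * (d + 1)) : y = (f + 1) * (e + 1) * b := by
  have h4 : x = a * (c + 1) * (d + 1) := by
    have h5 : (c + 1) * x = (c + 1) * (a * (c + 1) * (d + 1)) := by
      rw [h2]; ring
    exact Nat.eq_of_mul_eq_mul_left (by omega) h5
  rw [h4] at h1
  have hpos : 0 < a * (c + 1) * (d + 1) := by positivity
  apply Nat.eq_of_mul_eq_mul_right hpos
  rw [h1]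
  ring

theorem cls_arith {q x y : ℕ} (hq2 : 2 ≤ q)
    (h1 : y * x = q ^ 12 * (q - 1) * (q ^ 3 + 1) * (q ^ 4 - 1) * (q ^ 6 + 1))
    (h2 : (q - 1) * x = q ^ 12 * (q - 1) ^ 2 * (q ^ 2 + 1)) :
    y = (q ^ 6 + 1) * (q ^ 3 + 1) * (q ^ 2 - 1) := by
  have ha : 0 < q ^ 12 := Nat.pow_pos (by omega)
  have e2 : q ^ 4 - 1 = (q ^ 2 + 1) * (q ^ 2 - 1) := by
    have h5 : 1 ≤ q ^ 2 := Nat.one_le_pow _ _ (by omega)
    obtain ⟨d, hd⟩ : ∃ d, q ^ 2 = d + 1 := ⟨q ^ 2 - 1, by omega⟩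
    have h6 : q ^ 4 = (d + 1) * (d + 1) := by rw [← hd]; ring
    rw [h6, hd]
    have : (d + 1) * (d + 1) = (d + 1 + 1) * d + 1 := by ring
    rw [this]
    simp only [_root_.add_tsub_cancel_right]
  rw [e2] at h1
  obtain ⟨c, hc⟩ : ∃ c, q - 1 = c + 1 := ⟨q - 2, by omega⟩
  rw [hc] at h1 h2
  exact cls_arith0 ha h1 h2

theorem card_Cls [Finite G] {q : ℕ} (hq : Nat.card F = q) (hq2 : 2 ≤ q)
    (hG : Nat.card G = q ^ 12 * (q - 1) * (q ^ 3 + 1) * (q ^ 4 - 1) * (q ^ 6 + 1)) :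
    Nat.card (Cls S) = (q ^ 6 + 1) * (q ^ 3 + 1) * (q ^ 2 - 1) := by
  obtain ⟨hz, hz1⟩ := e201 S
  have hC := S.centralizer_z hz hz1
  have h1 := card_conj (S.e 2 0 1) S.PL ⊤ hC (Cls S) (by
    intro x
    rw [mem_Cls_iff]
    constructor
    · rintro ⟨g, hg⟩; exact ⟨g, trivial, hg⟩
    · rintro ⟨g, -, hg⟩; exact ⟨g, hg⟩)
  rw [inf_top_eq, Subgroup.card_top, hG] at h1
  have h2 := card_conj (S.e 2 0 1) S.PL (P S) hC {x | x ∈ S.Zc 2 ∧ x ≠ 1} (by
    intro x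
    constructor
    · rintro ⟨⟨u, rfl⟩, hx1⟩
      have hu : u ≠ 0 := by
        rintro rfl
        exact hx1 (S.e_zero 2)
      obtain ⟨t, ht, htu⟩ := S.T_trans (u := 1) (v := u) one_ne_zero hu
      exact ⟨t, T_le_P S ht, htu⟩
    · rintro ⟨g, hg, rfl⟩
      refine ⟨(Subgroup.mem_normalizer_iff.1 hg _).1 hz, fun h => hz1 ?_⟩
      have : S.e 2 0 1 = g⁻¹ * (g * S.e 2 0 1 * g⁻¹) * g := by group
      rw [this, h]; group)
  rw [inf_eq_left.2 (PL_le_P S), card_P, hq] at h2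
  have h3 : Nat.card {x | x ∈ S.Zc 2 ∧ x ≠ 1} = q - 1 := by
    have h4 : Nat.card (S.Zc 2) = q := by rw [card_Zc, hq]
    have h5 : {x | x ∈ S.Zc 2 ∧ x ≠ 1} = (S.Zc 2 : Set G) \ {1} := by
      ext x; simp
    rw [h5, Nat.card_coe_set_eq, Set.ncard_sdiff_singleton_of_mem (S.Zc 2).one_mem, ← Nat.card_coe_set_eq]
    show Nat.card (S.Zc 2) - 1 = q - 1
    rw [h4]
  rw [h3] at h2
  exact cls_arith hq2 h1 h2

/-- The arithmetic. -/
theorem arith {q n : ℕ} (hq : 8 ≤ q) (hn : 2 ≤ n) (h6 : q ^ 6 ∣ n)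
    (hd : n - 1 ∣ (q ^ 6 + 1) * (q ^ 3 + 1) * (q ^ 2 - 1)) : False := by
  obtain ⟨k, rfl⟩ := h6
  obtain ⟨f, hf⟩ := hd
  have hk : 1 ≤ k := by
    rcases Nat.eq_zero_or_pos k with h | h
    · rw [h, mul_zero] at hn; omega
    · exact h
  have hqpos : 0 < q := by omega
  have hq6 : 1 ≤ q ^ 6 := Nat.one_le_pow _ _ hqpos
  have hq6k : 1 ≤ q ^ 6 * k := Nat.one_le_iff_ne_zero.2 (by positivity)
  -- over the integers
  have hz : ((q : ℤ) ^ 6 + 1) * (q ^ 3 + 1) * (q ^ 2 - 1) = (q ^ 6 * k - 1) * f := by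
    have h1 : ((q ^ 2 - 1 : ℕ) : ℤ) = (q : ℤ) ^ 2 - 1 := by
      have : 1 ≤ q ^ 2 := Nat.one_le_pow _ _ hqpos
      push_cast [Nat.cast_sub this]; ring
    have h2 : ((q ^ 6 * k - 1 : ℕ) : ℤ) = (q : ℤ) ^ 6 * k - 1 := by
      push_cast [Nat.cast_sub hq6k]; ring
    have h3 := congrArg (fun x : ℕ => (x : ℤ)) hf
    simp only [Nat.cast_mul, h1, h2] at h3
    push_cast at h3
    exact h3
  set Q : ℤ := (q : ℤ) with hQ
  have hQ8 : 8 ≤ Q := by rw [hQ]; exact_mod_cast hq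
  set K : ℤ := (k : ℤ) with hK
  have hK1 : 1 ≤ K := by rw [hK]; exact_mod_cast hk
  set f' : ℤ := (f : ℤ) with hf'
  have hf0 : 0 ≤ f' := by rw [hf']; exact_mod_cast Nat.zero_le f
  clear_value Q K f'
  -- `f ≡ -(q^3+1)(q^2-1)` modulo `q^6`
  have hm : ∃ w : ℤ, f' + (Q ^ 3 + 1) * (Q ^ 2 - 1) = Q ^ 6 * w :=
    ⟨K * f' - (Q ^ 3 + 1) * (Q ^ 2 - 1), by linear_combination hz⟩
  obtain ⟨w, hw⟩ := hm
  have hpos1 : 0 < (Q ^ 3 + 1) * (Q ^ 2 - 1) := by
    apply mul_pos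
    · positivity
    · nlinarith only [hq, hQ]
  have hQ6 : 0 < Q ^ 6 := by positivity
  have hw1 : 1 ≤ w := by
    by_contra h
    have : w ≤ 0 := by linarith only [h]
    nlinarith only [hf', hw, hpos1, hQ6, h]
  have hfge : Q ^ 6 - (Q ^ 3 + 1) * (Q ^ 2 - 1) ≤ f' := by nlinarith only [hw, hQ6, hw1]
  have hKf : (Q ^ 6 - 1) * (Q ^ 6 - (Q ^ 3 + 1) * (Q ^ 2 - 1)) ≤ (Q ^ 6 * K - 1) * f' := by
    have h1 : Q ^ 6 - 1 ≤ Q ^ 6 * K - 1 := by nlinarith only [hk, hK, hQ6]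
    have h2 : 0 ≤ Q ^ 6 - 1 := by linarith only [hQ6]
    have h3 : 0 ≤ Q ^ 6 - (Q ^ 3 + 1) * (Q ^ 2 - 1) := by
      have h4 : 0 < Q ^ 2 := by positivity
      have h5 : 0 < Q ^ 3 := by positivity
      have h6 : Q ^ 6 = Q ^ 3 * Q ^ 2 * Q := by ring
      nlinarith only [hQ, hQ6]
    calc (Q ^ 6 - 1) * (Q ^ 6 - (Q ^ 3 + 1) * (Q ^ 2 - 1)) ≤
        (Q ^ 6 * K - 1) * (Q ^ 6 - (Q ^ 3 + 1) * (Q ^ 2 - 1)) := mul_le_mul_of_nonneg_right h1 h3
      _ ≤ (Q ^ 6 * K - 1) * f' := mul_le_mul_of_nonneg_left hfge (by linarith only [hQ6, h1])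
  rw [← hz] at hKf
  -- contradiction
  obtain ⟨R, hR⟩ : ∃ R : ℤ, Q = R + 8 := ⟨Q - 8, by ring⟩
  have hR0 : 0 ≤ R := by linarith only [hq, hQ, hR]
  rw [hR] at hKf
  have : 0 < ((R + 8) ^ 6 - 1) * ((R + 8) ^ 6 - ((R + 8) ^ 3 + 1) * ((R + 8) ^ 2 - 1)) -
      ((R + 8) ^ 6 + 1) * ((R + 8) ^ 3 + 1) * ((R + 8) ^ 2 - 1) := by
    ring_nf
    (clear * - hR0; positivity)
  linarith only [hKf, this]

/-- `U T` normalises `Z_4` and `Q`. -/
theorem B_le_P : J S.XZ 1 8 ⊔ S.T ≤ P S :=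
  sup_le ((J_mono (by norm_num) le_rfl).trans (PL_le_P S)) (T_le_P S)

theorem B_le_NQ : J S.XZ 1 8 ⊔ S.T ≤ Subgroup.normalizer (S.Q : Set G) := by
  have Z8 := S.zsys8
  apply sup_le
  · have h := Z8.le_normalizer (a := 1) (b := 7) (by norm_num)
    norm_num at h
    exact (J_mono (by norm_num) le_rfl).trans h
  · intro t ht
    rw [Subgroup.mem_normalizer_iff]
    intro x
    constructor
    · intro hx
      exact S.T_conj_J ht hx
    · intro hx
      have h1 := S.T_conj_J (inv_mem ht) hx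
      have e : t⁻¹ * (t * x * t⁻¹) * t⁻¹⁻¹ = x := by group
      rwa [e] at h1

theorem HO_norm_W46 {g w : G} (hg : g ∈ S.HO) (hw : w ∈ S.W46) : g * w * g⁻¹ ∈ S.W46 := by
  have h1 : S.HO ≤ J S.XZ 1 9 := sup_le S.LO_le_J (by
    intro x hx
    exact J_mono (by norm_num) (by norm_num) hx.1)
  exact S.W46_conj (h1 hg) hw

/-- **The main theorem on `²F₄(q)`.** -/
theorem no_action [Finite G] {q f : ℕ} (hq : Nat.card F = q) (hqf : q = 2 ^ f) (hf : 3 ≤ f)
    (hG : Nat.card G = q ^ 12 * (q - 1) * (q ^ 3 + 1) * (q ^ 4 - 1) * (q ^ 6 + 1))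
    {Ω : Type*} [Finite Ω] [MulAction G Ω] [FaithfulSMul G Ω] (hn : 2 ≤ Nat.card Ω)
    (hB : ∀ a b : Ω, ∃ g ∈ J S.XZ 1 8 ⊔ S.T, g • a = b)
    (hdvd : (∀ x ∈ Cls S, ∀ a : Ω, x • a ≠ a) → (Nat.card Ω - 1) ∣ Nat.card (Cls S)) : False := by
  have hq8 : 8 ≤ q := by
    rw [hqf]
    calc 8 = 2 ^ 3 := by norm_num
      _ ≤ 2 ^ f := Nat.pow_le_pow_right (by norm_num) hf
  obtain ⟨hz, hz1⟩ := e201 S
  have hne : Nonempty Ω := by
    by_contra h
    rw [not_nonempty_iff] at h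
    rw [Nat.card_of_isEmpty] at hn
    omega
  obtain ⟨a₀⟩ := hne
  -- the order of `Z_4 ∩ G_a` is constant
  set e := Nat.card (S.Zc 2 ⊓ stabilizer G a₀ : Subgroup G) with he
  have hconst : ∀ a : Ω, Nat.card (S.Zc 2 ⊓ stabilizer G a : Subgroup G) = e := fun a =>
    LongRoot.card_inf_stab_const _ (S.Zc 2) hB (B_le_P S) a a₀
  have hconj : ∀ (g : G) (a : Ω), (S.Zc 2).map (MulAut.conj g).toMonoidHom ⊓ stabilizer G a =
      (S.Zc 2 ⊓ stabilizer G (g⁻¹ • a)).map (MulAut.conj g).toMonoidHom := by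
    intro g a
    ext x
    simp only [Subgroup.mem_map, Subgroup.mem_inf, mem_stabilizer_iff]
    constructor
    · rintro ⟨⟨z, hz, rfl⟩, hx⟩
      refine ⟨z, ⟨hz, ?_⟩, rfl⟩
      have h1 : (g * z * g⁻¹) • a = a := hx
      rw [mul_smul, mul_smul, smul_eq_iff_eq_inv_smul] at h1
      exact h1
    · rintro ⟨z, ⟨hz, hza⟩, rfl⟩
      refine ⟨⟨z, hz, rfl⟩, ?_⟩
      show (g * z * g⁻¹) • a = a
      rw [mul_smul, mul_smul, hza, smul_inv_smul]
  have hecard : ∀ (g : G) (a : Ω),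
      Nat.card ((S.Zc 2).map (MulAut.conj g).toMonoidHom ⊓ stabilizer G a : Subgroup G) = e := by
    intro g a
    rw [hconj, ← hconst (g⁻¹ • a)]
    exact (Nat.card_congr (Subgroup.equivMapOfInjective _ _ (MulAut.conj g).injective).toEquiv).symm
  -- the line lemma
  have hline := LongRoot.line (p := 2) (f := f) Nat.prime_two (by omega) (S.Zc 2) S.W46 (stabilizer G a₀)
    (by rw [card_Zc, hq, hqf]) (by rw [card_W46, hq, hqf, ← pow_mul, mul_comm]) (by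
      intro g z hz hz1 hg
      have hgP := mem_P_of S hz hz1 hg
      ext x
      rw [Subgroup.mem_map]
      constructor
      · rintro ⟨y, hy, rfl⟩
        exact (Subgroup.mem_normalizer_iff.1 hgP y).1 hy
      · intro hx
        refine ⟨g⁻¹ * x * g, ?_, ?_⟩
        · rw [Subgroup.mem_normalizer_iff.1 hgP]
          have : g * (g⁻¹ * x * g) * g⁻¹ = x := by group
          rw [this]; exact hx
        · show g * (g⁻¹ * x * g) * g⁻¹ = x
          group) (by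
      intro w hw _
      obtain ⟨g, hg, hgw⟩ := Layers.W46_conj_Z S hw
      refine ⟨g⁻¹, ⟨g * w * g⁻¹, hgw, ?_⟩, ?_⟩
      · show g⁻¹ * (g * w * g⁻¹) * g⁻¹⁻¹ = w
        group
      · rintro _ ⟨z, ⟨u, rfl⟩, rfl⟩
        exact HO_norm_W46 S (inv_mem hg) (S.Z4_W46 u)) e (fun g _ => hecard g a₀)
  have he1 : e = 1 := by
    rcases hline with h | h
    · exact h
    · exfalso
      -- `Z_4` acts trivially
      apply hz1
      apply FaithfulSMul.eq_of_smul_eq_smul (α := Ω)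
      intro a
      rw [one_smul]
      have h1 : S.Zc 2 ⊓ stabilizer G a = S.Zc 2 := by
        apply Subgroup.eq_of_le_of_card_ge inf_le_left
        rw [hconst, h, card_Zc, hq, hqf]
      have h2 : S.e 2 0 1 ∈ S.Zc 2 ⊓ stabilizer G a := by rw [h1]; exact hz
      exact h2.2
  have hfree : ∀ x ∈ Cls S, ∀ a : Ω, x • a ≠ a := by
    rintro _ ⟨g, z, hz, hz1, rfl⟩ a hxa
    have h1 := hecard g a
    rw [he1, Subgroup.card_eq_one] at h1
    have h2 : g * z * g⁻¹ ∈ (S.Zc 2).map (MulAut.conj g).toMonoidHom ⊓ stabilizer G a :=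
      ⟨⟨z, hz, rfl⟩, hxa⟩
    rw [h1, Subgroup.mem_bot] at h2
    apply hz1
    have : z = g⁻¹ * (g * z * g⁻¹) * g := by group
    rw [this, h2]; group
  have hd := hdvd hfree
  rw [card_Cls S hq (by omega) hG] at hd
  -- `q ^ 6` divides `n`
  have hA : Nat.card (S.Q ⊓ stabilizer G a₀ : Subgroup G) ≤ q ^ 4 := by
    rw [← hq]
    apply card_le S inf_le_left
    rw [eq_bot_iff]
    rintro x ⟨⟨-, hxa⟩, hxz⟩
    rw [Subgroup.mem_bot]
    by_contra hx1
    exact hfree x ⟨1, x, hxz, hx1, by group⟩ a₀ hxa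
  have hrel := LongRoot.card_inf_mul_relIndex S.Q (stabilizer G a₀)
  rw [card_Q, hq] at hrel
  have hrd := LongRoot.relIndex_dvd _ S.Q hB (B_le_NQ S) a₀
  set ℓ := (stabilizer G a₀).relIndex S.Q with hℓ
  have hℓd : ℓ ∣ 2 ^ (f * 10) := by
    rw [pow_mul, ← hqf, ← hrel]
    exact Dvd.intro_left _ rfl
  obtain ⟨j, hj, hℓj⟩ := (Nat.dvd_prime_pow Nat.prime_two).1 hℓd
  have h6 : q ^ 6 ∣ Nat.card Ω := by
    refine dvd_trans ?_ hrd
    rw [hℓj, hqf, ← pow_mul]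
    apply pow_dvd_pow
    by_contra hlt
    push Not at hlt
    have h1 : q ^ 10 ≤ q ^ 4 * 2 ^ j := by
      rw [← hrel, hℓj]
      exact Nat.mul_le_mul_right _ hA
    have h2 : 2 ^ j < q ^ 6 := by
      rw [hqf, ← pow_mul]
      exact Nat.pow_lt_pow_right (by norm_num) hlt
    have h3 : q ^ 4 * 2 ^ j < q ^ 4 * q ^ 6 := Nat.mul_lt_mul_of_pos_left h2 (Nat.pow_pos (by omega))
    have h4 : q ^ 4 * q ^ 6 = q ^ 10 := by rw [← pow_add]
    omega
  exact arith hq8 hn h6 hd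

end Cfsg.Agent.H392.TwFFour
end

-- part: H392/TwFFour/Row
section
/-!
# Hub H1, row `²F₄(q)`, `q ≥ 8`: the Borel subgroup of `T` is not transitive
-/

set_option autoImplicit false
set_option linter.unusedSectionVars false

open MulAction

namespace Cfsg.Agent.H392.TwFFour

open Cfsg.Agent.SplitTwo Cfsg.Agent.SplitTwo.ZS Cfsg.Agent.TitsThree.RankTwoZ Cfsg.Agent.KFacts.TwF4
open Cfsg.Agent.KFacts.TwF4.Arc Cfsg.Agent.KFacts.TwF4.Irr
open Cfsg.Agent.H384.TwoTrans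

universe u v w

/-- The class of long root elements is invariant under automorphisms. -/
theorem Cls_aut {F : Type*} [Field F] [Finite F] {σ : F →+* F} {Y : Type u} [Group Y] [Finite Y] (S : Full σ Y)
    (hF : ∃ c : Fˣ, c ≠ 1) (hR : S.R.p = 2) (α : MulAut Y) {x : Y} (hx : x ∈ Cls S) : α x ∈ Cls S := by
  obtain ⟨k, τ, -, he⟩ := AutNorm.aut_form S hF hR α
  rw [mem_Cls_iff] at hx ⊢
  obtain ⟨g, rfl⟩ := hx
  refine ⟨α g * k, ?_⟩
  rw [map_mul, map_mul, map_inv, he, map_zero, map_one]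
  group

theorem row_of_borel {G : Type u} {Ω : Type v} [Group G] [MulAction G Ω] {T : Subgroup G} (A : AS G Ω T)
    {F : Type*} [Field F] [Finite F] {σ : F →+* F} {Y : Type w} [Group Y] (S : Full σ Y) (e : T ≃* Y)
    (hF : ∃ c : Fˣ, c ≠ 1) (hR : S.R.p = 2) {q f : ℕ} (hq : Nat.card F = q) (hqf : q = 2 ^ f) (hf : 3 ≤ f)
    (hY : Nat.card Y = q ^ 12 * (q - 1) * (q ^ 3 + 1) * (q ^ 4 - 1) * (q ^ 6 + 1))
    (hB : ∀ a b : Ω, ∃ y ∈ J S.XZ 1 8 ⊔ S.T, ((e.symm y : T) : G) • a = b) : False := by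
  have := A.finG
  have := A.finΩ
  have := A.faithful
  have := A.normal
  have := A.simple
  have : Finite Y := Finite.of_equiv T e.toEquiv
  -- the action of `Y`
  let ι : Y →* G := T.subtype.comp e.symm.toMonoidHom
  have hι : Function.Injective ι := T.subtype_injective.comp e.symm.injective
  let _ : MulAction Y Ω := MulAction.compHom Ω ι
  have hsm : ∀ (y : Y) (a : Ω), y • a = ι y • a := fun _ _ => rfl
  have : FaithfulSMul Y Ω := by
    refine ⟨fun {y y'} h => ?_⟩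
    apply hι
    exact FaithfulSMul.eq_of_smul_eq_smul (α := Ω) (fun a => h a)
  have hn : 2 ≤ Nat.card Ω := by
    by_contra hlt
    have h1 : Nat.card Ω ≤ 1 := by omega
    have : Subsingleton Ω := by
      rcases Nat.lt_or_ge (Nat.card Ω) 1 with h | h
      · have : Nat.card Ω = 0 := by omega
        rw [Nat.card_eq_zero] at this
        rcases this with h | h
        · infer_instance
        · exact absurd ‹Finite Ω› (not_finite_iff_infinite.2 h)
      · exact (Nat.card_eq_one_iff_unique.1 (by omega)).1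
    have : Subsingleton Y := by
      refine ⟨fun y y' => ?_⟩
      exact FaithfulSMul.eq_of_smul_eq_smul (α := Ω) (fun a => Subsingleton.elim _ _)
    exact (e201 S).2 (Subsingleton.elim _ _)
  have hne : Nonempty Ω := by
    by_contra h
    rw [not_nonempty_iff] at h
    rw [Nat.card_of_isEmpty] at hn
    omega
  refine no_action S hq hqf hf hY hn (fun a b => ?_) (fun hfree => ?_)
  · obtain ⟨y, hy, h⟩ := hB a b
    exact ⟨y, hy, h⟩
  · -- the image of `Cls` in `G`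
    have h1 : Nat.card (Cls S) = Nat.card (ι '' (Cls S)) := (Nat.card_image_of_injective hι _).symm
    rw [h1]
    refine LongRoot.sub_one_dvd_card A.two (ι '' (Cls S)) ?_ ?_
    · rintro g _ ⟨y, hy, rfl⟩
      -- conjugation by `g` on `Y`
      let c : MulAut Y := (e.symm.trans (MulAut.conjNormal g : MulAut T)).trans e
      refine ⟨c y, Cls_aut S hF hR c hy, ?_⟩
      show ((e.symm (e ((MulAut.conjNormal g : MulAut T) (e.symm y))) : T) : G) = g * ((e.symm y : T) : G) * g⁻¹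
      rw [MulEquiv.symm_apply_apply, MulAut.conjNormal_apply]
    · rintro _ ⟨y, hy, rfl⟩ a
      exact hfree y hy a

end Cfsg.Agent.H392.TwFFour
end

-- part: H392/TwFFour/DatF
section
/-!
# The split (B,N)-datum of `²F₄(q)`, and Theorem D
-/

set_option autoImplicit false
set_option linter.unusedSectionVars false

open MulAction

namespace Cfsg.Agent.H392.TwFFour

open Cfsg.Agent.SplitTwo Cfsg.Agent.SplitTwo.ZS Cfsg.Agent.TitsThree.RankTwoZ Cfsg.Agent.KFacts.TwF4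
open Cfsg.Agent.KFacts.TwF4.Arc Cfsg.Agent.KFacts.TwF4.Irr
open Cfsg.Agent.H249
open scoped commutatorElement

universe u v w

section CommU

variable {F : Type*} [Field F] {σ : F →+* F} {G : Type u} [Group G] (S : Full σ G)

theorem J27_le (hF : ∃ c : Fˣ, c ≠ 1) [Finite F] : J S.XZ 2 7 ≤ ⁅J S.XZ 1 8, J S.XZ 1 8⁆ := by
  set D : Subgroup G := ⁅J S.XZ 1 8, J S.XZ 1 8⁆ with hD
  have hDU : D ≤ J S.XZ 1 8 := by
    rw [hD, Subgroup.commutator_le]
    intro a ha b hb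
    exact mul_mem (mul_mem (mul_mem ha hb) (inv_mem ha)) (inv_mem hb)
  have hDn : ∀ g ∈ J S.XZ 1 8, ∀ x ∈ D, g * x * g⁻¹ ∈ D := by
    intro g hg x hx
    have h1 : ⁅g, x⁆ ∈ D := Subgroup.commutator_mem_commutator hg (hDU hx)
    have : g * x * g⁻¹ = ⁅g, x⁆ * x := by rw [commutatorElement_def]; group
    rw [this]
    exact mul_mem h1 hx
  have hTn : ∀ t ∈ S.T, ∀ x ∈ D, t * x * t⁻¹ ∈ D := by
    intro t ht x hx
    have h1 : D ≤ D.comap (MulAut.conj t).toMonoidHom := by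
      rw [← Subgroup.map_le_iff_le_comap, hD, Subgroup.map_commutator]
      refine Subgroup.commutator_mono ?_ ?_ <;>
      · rintro _ ⟨y, hy, rfl⟩
        exact S.T_conj_J ht hy
    exact h1 hx
  have u1 : ∀ t, S.o 0 t ∈ J S.XZ 1 8 := fun t => mem_J (S.mX1 t) (by norm_num) (by norm_num)
  have u2 : ∀ p u, S.e 1 p u ∈ J S.XZ 1 8 := fun p u => mem_J (S.mX2 p u) (by norm_num) (by norm_num)
  have u4 : ∀ p u, S.e 2 p u ∈ J S.XZ 1 8 := fun p u => mem_J (S.mX4 p u) (by norm_num) (by norm_num)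
  have u6 : ∀ p u, S.e 3 p u ∈ J S.XZ 1 8 := fun p u => mem_J (S.mX6 p u) (by norm_num) (by norm_num)
  have u8 : ∀ p u, S.e 4 p u ∈ J S.XZ 1 8 := fun p u => mem_J (S.mX8 p u) (by norm_num) (by norm_num)
  have hQ2 : S.Q2 ≤ D := by
    rw [← Layers.comm_Q, hD]
    exact Subgroup.commutator_mono (J_mono le_rfl (by norm_num)) (J_mono le_rfl (by norm_num))
  have z2 : ∀ u, S.e 1 0 u ∈ D := fun u => hQ2 (S.q2_1 u)
  have d3 : ∀ t, S.o 1 t ∈ D := fun t => hQ2 (S.q2_2 t)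
  have z4 : ∀ u, S.e 2 0 u ∈ D := fun u => hQ2 (S.q2_3 u)
  have d5 : ∀ t, S.o 2 t ∈ D := fun t => hQ2 (S.q2_4 t)
  have z6 : ∀ u, S.e 3 0 u ∈ D := fun u => hQ2 (S.q2_5 u)
  have d7 : ∀ t, S.o 3 t ∈ D := by
    intro t
    have h := S.rel.r68 t 0 1 0
    rw [mul_one] at h
    exact Layers.mem_comm_of_rel h (u6 t 0) (u8 1 0)
  have em : ∀ (a : ZMod 8) (p u v : F), S.e a p u * S.e a 0 v = S.e a p (u + v) := by
    intro a p u v
    rw [S.e_mul, add_zero, map_zero, mul_zero, add_zero]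
  -- `x₄(a) x₆(a)`
  have h46 : ∀ p : F, S.e 2 (σ p * p) 0 * S.e 3 (σ p * p) 0 ∈ D := by
    intro p
    have h := S.rel.r28 p 0 p 0
    have h1 := Layers.mem_comm_of_rel (H := J S.XZ 1 8) (r := S.o 1 (p * σ p * p + 0 * p) *
      S.e 2 (σ p * p) (p * 0 * 0 + p * p * σ p * 0 + σ 0 * p * σ p + σ 0 * 0) * S.o 2 (0 * 0) *
      S.e 3 (p * σ p) (p * σ p * p * p * σ p + p * σ p * σ 0 + 0 * p * 0 + 0 * p * p * σ p + 0 * σ 0) *
      S.o 3 (p * p * σ p + p * 0)) (by rw [h]; group) (u2 p 0) (u8 p 0)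
    simp only [zero_mul, mul_zero, add_zero, map_zero, S.o_zero, mul_one] at h1
    rw [← zero_add (p * σ p * p * p * σ p), ← em 3] at h1
    have h2 := (Subgroup.mul_mem_cancel_right _ (d7 _)).1 h1
    rw [mul_assoc, mul_assoc] at h2
    have h3 := (Subgroup.mul_mem_cancel_left _ (d3 _)).1 h2
    rw [← mul_assoc] at h3
    have h4 := (Subgroup.mul_mem_cancel_right _ (z6 _)).1 h3
    rwa [mul_comm p (σ p)] at h4
  -- every `x₄(a) x₆(a)`
  have h46' : ∀ a : F, S.e 2 a 0 * S.e 3 a 0 ∈ D := by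
    intro a
    rcases eq_or_ne a 0 with rfl | ha
    · rw [S.e_zero, S.e_zero, one_mul]; exact one_mem _
    · obtain ⟨χ, hχ⟩ := s1_surj S (Units.mk0 a ha)
      have := h46 (χ : F)
      have e1 : σ (χ : F) * (χ : F) = a := by
        have := congrArg Units.val hχ
        simp only [Units.val_mul, Units.coe_map, MonoidHom.coe_coe, Units.val_mk0] at this
        rw [← this, mul_comm]
      rwa [e1] at this
  obtain ⟨c, hc⟩ := hF
  -- `X₆`
  have h6 : ∀ b : F, S.e 3 b 0 ∈ D := by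
    have key : ∀ a : F, S.e 3 a 0 * (S.e 3 ((c : F) * a) 0)⁻¹ ∈ D := by
      intro a
      have h1 := h46' a
      have hT : S.h (Units.map (σ : F →* F) c⁻¹) c⁻¹ ∈ S.T := S.mem_T.2 ⟨_, _, rfl⟩
      have h2 := hTn _ hT _ h1
      have e2 : S.h (Units.map (σ : F →* F) c⁻¹) c⁻¹ * (S.e 2 a 0 * S.e 3 a 0) *
          (S.h (Units.map (σ : F →* F) c⁻¹) c⁻¹)⁻¹ = S.e 2 a 0 * S.e 3 ((c : F) * a) 0 := by
        have e3 : S.h (Units.map (σ : F →* F) c⁻¹) c⁻¹ * (S.e 2 a 0 * S.e 3 a 0) *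
          (S.h (Units.map (σ : F →* F) c⁻¹) c⁻¹)⁻¹ =
          (S.h (Units.map (σ : F →* F) c⁻¹) c⁻¹ * S.e 2 a 0 * (S.h (Units.map (σ : F →* F) c⁻¹) c⁻¹)⁻¹) *
          (S.h (Units.map (σ : F →* F) c⁻¹) c⁻¹ * S.e 3 a 0 * (S.h (Units.map (σ : F →* F) c⁻¹) c⁻¹)⁻¹) := by group
        rw [e3, S.h_e, S.h_e]
        have e4 : chE σ 2 (Units.map (σ : F →* F) c⁻¹) c⁻¹ = 1 := by
          show Units.map (σ : F →* F) c⁻¹ / Units.map (σ : F →* F) c⁻¹ = 1
          exact div_self' _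
        have e5 : chE σ 3 (Units.map (σ : F →* F) c⁻¹) c⁻¹ = c := by
          show c⁻¹ / Units.map (σ : F →* F) (Units.map (σ : F →* F) c⁻¹) = c
          rw [Cfsg.Agent.KFacts.TwF4.map_map σ S.sq, pow_two, ← mul_inv, div_inv_eq_mul, inv_mul_cancel_left]
        rw [e4, e5]
        simp
      rw [e2] at h2
      have h3 : (S.e 2 a 0 * S.e 3 a 0) * (S.e 2 a 0 * S.e 3 ((c : F) * a) 0)⁻¹ ∈ D := mul_mem h1 (inv_mem h2)
      have h4 := hDn _ (inv_mem (u4 a 0)) _ h3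
      have e6 : (S.e 2 a 0)⁻¹ * ((S.e 2 a 0 * S.e 3 a 0) * (S.e 2 a 0 * S.e 3 ((c : F) * a) 0)⁻¹) * (S.e 2 a 0)⁻¹⁻¹ =
        S.e 3 a 0 * (S.e 3 ((c : F) * a) 0)⁻¹ := by group
      rwa [e6] at h4
    intro b
    have hc1 : (1 : F) - c ≠ 0 := by
      intro h
      apply hc
      exact Units.ext (sub_eq_zero.1 h).symm
    have h1 := key (b / (1 - c))
    rw [e_inv S, S.e_mul] at h1
    have e1 : b / (1 - (c : F)) + (c : F) * (b / (1 - c)) = b := by
      have e2 : (c : F) * (b / (1 - c)) = - ((c : F) * (b / (1 - c))) := by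
        rw [eq_neg_iff_add_eq_zero]; exact char2 S _
      rw [e2]
      field_simp
      ring
    rw [e1, ← zero_add (0 + (0 + (c : F) * (b / (1 - c)) * σ ((c : F) * (b / (1 - c)))) +
      b / (1 - (c : F)) * σ ((c : F) * (b / (1 - c)))), ← em 3] at h1
    exact (Subgroup.mul_mem_cancel_right _ (z6 _)).1 h1
  have h4 : ∀ a : F, S.e 2 a 0 ∈ D := fun a => (Subgroup.mul_mem_cancel_right _ (h6 a)).1 (h46' a)
  have em' : ∀ (a : ZMod 8) (p u : F), S.e a p u = S.e a p 0 * S.e a 0 u := by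
    intro a p u
    rw [em, zero_add]
  have h6' : ∀ p u, S.e 3 p u ∈ D := fun p u => by rw [em']; exact mul_mem (h6 p) (z6 u)
  have h4' : ∀ p u, S.e 2 p u ∈ D := fun p u => by rw [em']; exact mul_mem (h4 p) (z4 u)
  have h2' : ∀ p u, S.e 1 p u ∈ D := by
    intro q u
    have h := S.rel.r18 1 q 0
    have h1 := Layers.mem_comm_of_rel (H := J S.XZ 1 8) (r := S.e 1 (1 * q) (1 * σ 1 * q * σ q + 1 * σ 1 * 0) *
      S.o 1 (1 * σ 1 * q * 0 + 1 * σ 1 * q * q * σ q + 1 * σ 1 * σ 0) *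
      S.e 2 (σ 1 * q * σ q + σ 1 * 0) (1 * 1 * σ 1 * q * 0 * 0 + 1 * 1 * σ 1 * q * q * σ q * 0 + 1 * 1 * σ 1 * 0 * σ 0) *
      S.o 2 (1 * σ 1 * σ q * σ 0 + 1 * σ 1 * q * q * σ q * σ q + 1 * σ 1 * 0 * 0) *
      S.e 3 (1 * 0) (1 * σ 1 * q * 0 * 0 + 1 * σ 1 * q * σ q * σ 0 + 1 * σ 1 * q * q * q * σ q * σ q) *
      S.o 3 (1 * q * 0 + 1 * q * q * σ q + 1 * σ 0)) (by rw [h]; group) (u1 1) (u8 q 0)
    rw [mul_assoc, mul_assoc, mul_assoc, mul_assoc] at h1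
    have h2 := (Subgroup.mul_mem_cancel_right _ (mul_mem (d3 _) (mul_mem (h4' _ _) (mul_mem (d5 _)
      (mul_mem (h6' _ _) (d7 _)))))).1 h1
    rw [em', one_mul] at h2
    have h3 := (Subgroup.mul_mem_cancel_right _ (z2 _)).1 h2
    rw [em']
    exact mul_mem h3 (z2 u)
  refine J_le fun k h1 h2 x hx => ?_
  interval_cases k
  · obtain ⟨p, u, rfl⟩ := S.X2 hx; exact h2' p u
  · obtain ⟨t, rfl⟩ := S.X3 hx; exact d3 t
  · obtain ⟨p, u, rfl⟩ := S.X4 hx; exact h4' p u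
  · obtain ⟨t, rfl⟩ := S.X5 hx; exact d5 t
  · obtain ⟨p, u, rfl⟩ := S.X6 hx; exact h6' p u
  · obtain ⟨t, rfl⟩ := S.X7 hx; exact d7 t

end CommU

section BN

variable {F : Type*} [Field F] {σ : F →+* F} {G : Type u} [Group G] (S : Full σ G)

/-- the monomial group -/
def Nm : Subgroup G where
  carrier := {w | S.IsDih w}
  one_mem' := ⟨0, Or.inl (Maps.one.congr fun k => by simp)⟩
  mul_mem' := by
    rintro a b ⟨c, hc | hc⟩ ⟨d, hd | hd⟩
    · exact ⟨c + d, Or.inl ((hc.mul hd).congr fun k => by simp only [Function.comp]; ring)⟩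
    · exact ⟨c + d, Or.inr ((hc.mul hd).congr fun k => by simp only [Function.comp]; ring)⟩
    · exact ⟨c - d, Or.inr ((hc.mul hd).congr fun k => by simp only [Function.comp]; ring)⟩
    · exact ⟨c - d, Or.inl ((hc.mul hd).congr fun k => by simp only [Function.comp]; ring)⟩
  inv_mem' := by
    rintro a ⟨c, hc | hc⟩
    · exact ⟨-c, Or.inl (hc.inv fun k => by ring)⟩
    · exact ⟨c, Or.inr (hc.inv fun k => by ring)⟩

/-- positive indices -/
def Po (j : ZMod (2 * 8)) : Prop := 1 ≤ j.val ∧ j.val ≤ 8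

instance : DecidablePred Po := fun _ => inferInstanceAs (Decidable (_ ∧ _))

theorem po_or : ∀ j : ZMod (2 * 8), Po j ∨ Po (8 + j) := by decide

theorem po_add : ∀ c : ZMod (2 * 8), Po (c + 1) ∨ Po (c + 8) ∨ ∀ j, Po j → Po (c + (8 + j)) := by decide

theorem po_sub : ∀ c : ZMod (2 * 8), Po (c - 1) ∨ Po (c - 8) ∨ ∀ j, Po j → Po (c - (8 + j)) := by decide

theorem X_eq (j : ZMod (2 * 8)) : S.R.X j = S.XZ (j.val : ℤ) := by
  show S.R.X j = S.R.X _
  rw [Int.cast_natCast]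
  congr 1
  exact (ZMod.natCast_zmod_val _).symm

theorem X_le_U {j : ZMod (2 * 8)} (h : Po j) : S.R.X j ≤ J S.XZ 1 8 := by
  rw [X_eq]
  exact X_le_J (by have := h.1; omega) (by have := h.2; omega)

theorem U_le {K : Subgroup G} (h : ∀ j, Po j → S.R.X j ≤ K) : J S.XZ 1 8 ≤ K := by
  refine J_le fun k h1 h2 => ?_
  refine h (k : ZMod (2 * 8)) ?_
  interval_cases k <;> decide

theorem mem_T_of {g : G} (h : ∀ j x, x ∈ S.XZ j ↔ g * x * g⁻¹ ∈ S.XZ j) : g ∈ S.T := by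
  intro k x
  have h1 := h (k.val : ℤ) x
  rw [← X_eq] at h1
  exact h1.symm

theorem refl_T {c : ℤ} {n n' : G} (h : Refl S.XZ c n) (h' : Refl S.XZ c n') : n⁻¹ * n' ∈ S.T := by
  refine mem_T_of S fun j x => ?_
  rw [h' j x, h.inv (c - j) (n' * x * n'⁻¹), sub_sub_cancel, inv_inv]
  have e : n⁻¹ * n' * x * (n⁻¹ * n')⁻¹ = n⁻¹ * (n' * x * n'⁻¹) * n := by group
  rw [e]

/-- rank one -/
theorem rank1 {c j : ℤ} {n : G} (hn : Refl S.XZ c n) (hc : c = 2 * j + 8) {u : G} (hu : u ∈ S.XZ (j + 8)) (hu1 : u ≠ 1) :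
    ∃ a ∈ S.XZ j, ∃ t ∈ S.T, ∃ b ∈ S.XZ j, u = a * n * t * b := by
  obtain ⟨v, hv, v', hv', h⟩ := S.zsys8.mu (j + 8) u hu hu1
  rw [show j + 8 - 8 = j by ring] at hv hv'
  rw [show 2 * (j + 8) - 8 = c by rw [hc]; ring] at h
  refine ⟨v⁻¹, inv_mem hv, n⁻¹ * (v * u * v'), refl_T S hn h, v'⁻¹, inv_mem hv', by group⟩

theorem n2_refl' : Refl S.XZ 24 S.n2 := by
  intro j x
  rw [S.n2_refl j x, show (24 : ℤ) - j = 8 - j + 2 * 8 by ring, S.zsys8.per]

theorem n1_T {n : G} {c : ℤ} (h : Refl S.XZ c n) {t : G} (ht : t ∈ S.T) : n * t * n⁻¹ ∈ S.T := by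
  refine mem_T_of S fun j x => ?_
  have h2 : x ∈ S.XZ j ↔ n⁻¹ * x * n ∈ S.XZ (c - j) := by
    have := h.inv j x
    rwa [inv_inv] at this
  have h3 : n⁻¹ * x * n ∈ S.XZ (c - j) ↔ t * (n⁻¹ * x * n) * t⁻¹ ∈ S.XZ (c - j) :=
    ⟨fun hx => S.T_conj ht _ hx, fun hx => by
      have := S.T_conj' ht _ hx
      have e : t⁻¹ * (t * (n⁻¹ * x * n) * t⁻¹) * t = n⁻¹ * x * n := by group
      rwa [e] at this⟩
  rw [h2, h3, h (c - j), sub_sub_cancel]
  have e : n * t * n⁻¹ * x * (n * t * n⁻¹)⁻¹ = n * (t * (n⁻¹ * x * n) * t⁻¹) * n⁻¹ := by group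
  rw [e]

theorem X9_inf_U {x : G} (h9 : x ∈ S.XZ 9) (hU : x ∈ J S.XZ 1 8) : x = 1 := by
  have Z := S.zsys8
  obtain ⟨y, hy, hy1⟩ := Z.exists_ne 8
  have h1 : y * x = x * y := Z.commute_succ (k := 8) hy h9
  have h2 := Z.comm_bot (k := 8) (a := 1) (r := 4) (by norm_num) (by norm_num) hy hy1 hU h1.symm
  exact Z.inter' h9 (J_mono (by norm_num) (by norm_num) h2)

/-- `w` maps every root group to a root group, `X j` to a positive one or its opposite to a positive one -/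
theorem Nm_dich {k : G} (hk : k ∈ Nm S) (j : ZMod (2 * 8)) :
    (∀ x ∈ S.R.X j, k⁻¹ * x * k ∈ J S.XZ 1 8) ∨ (∀ x ∈ S.R.X (8 + j), k⁻¹ * x * k ∈ J S.XZ 1 8) := by
  obtain ⟨c, h⟩ := (Nm S).inv_mem hk
  have key : ∀ f : ZMod (2 * 8) → ZMod (2 * 8), Maps S.R.X k⁻¹ f → (∀ i, f (8 + i) = 8 + f i) →
      (∀ x ∈ S.R.X j, k⁻¹ * x * k ∈ J S.XZ 1 8) ∨ (∀ x ∈ S.R.X (8 + j), k⁻¹ * x * k ∈ J S.XZ 1 8) := by
    intro f hf h8
    rcases po_or (f j) with h1 | h1
    · left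
      intro x hx
      have := (hf j x).2 hx
      rw [inv_inv] at this
      exact X_le_U S h1 this
    · right
      intro x hx
      have := (hf (8 + j) x).2 hx
      rw [inv_inv, h8] at this
      exact X_le_U S h1 this
  rcases h with h | h
  · exact key _ h fun i => by ring
  · exact key _ h fun i => by
      have h16 : (8 : ZMod (2 * 8)) + 8 = 0 := by decide
      linear_combination (-1 : ZMod (2 * 8)) * h16

theorem n1_X {x : G} (hx : x ∈ S.XZ 1) : S.n1 * x * S.n1⁻¹ ∈ S.XZ 9 := S.n1_refl.mem' hx (by norm_num)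

theorem n2_X {x : G} (hx : x ∈ S.XZ 8) : S.n2 * x * S.n2⁻¹ ∈ S.XZ 0 := S.n2_refl.mem' hx (by norm_num)

theorem n2_X' {x : G} (hx : x ∈ S.XZ 8) : S.n2 * x * S.n2⁻¹ ∈ S.XZ 16 := (n2_refl' S).mem' hx (by norm_num)

variable [Finite F] [Finite G]

theorem mem_TU {x : G} : x ∈ S.T ⊔ J S.XZ 1 8 ↔ ∃ t ∈ S.T, ∃ u ∈ J S.XZ 1 8, x = t * u := by
  constructor
  · exact mem_sup_of_norm fun t ht u hu => S.T_conj_J ht hu
  · rintro ⟨t, ht, u, hu, rfl⟩
    exact mul_mem (Subgroup.mem_sup_left ht) (Subgroup.mem_sup_right hu)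

/-- a 2-element of the Borel subgroup is in `U` -/
theorem U_of_two (hR : S.R.p = 2) {V : Subgroup G} (hV : IsPGroup 2 V) {x : G} (hx : x ∈ V)
    (hB : x ∈ S.T ⊔ J S.XZ 1 8) : x ∈ J S.XZ 1 8 := by
  have hc : (Nat.card ↥S.T).Coprime 2 := (AutNorm.odd_T S).coprime_two_right
  have hU : IsPGroup 2 (J S.XZ 1 8) := Perf.two_J S hR (by norm_num)
  obtain ⟨t, ht, u, hu, rfl⟩ := (mem_TU S).1 hB
  have key : ∀ m : ℕ, ∃ v ∈ J S.XZ 1 8, (t * u) ^ m = t ^ m * v := by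
    intro m
    induction m with
    | zero => exact ⟨1, one_mem _, by simp⟩
    | succ m ih =>
      obtain ⟨v, hv, e⟩ := ih
      refine ⟨(t⁻¹ * v * t) * u, mul_mem ?_ hu, ?_⟩
      · have := S.T_conj_J (inv_mem ht) hv
        rwa [inv_inv] at this
      · rw [pow_succ, e, pow_succ]; group
  obtain ⟨k, hk⟩ := hV ⟨t * u, hx⟩
  have hk' : (t * u) ^ 2 ^ k = 1 := congrArg Subtype.val hk
  obtain ⟨v, hv, e⟩ := key (2 ^ k)
  rw [hk'] at e
  have h1 : t ^ 2 ^ k = 1 := by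
    refine S.U_inf_T (pow_mem ht _) ?_
    have : t ^ 2 ^ k = v⁻¹ := eq_inv_of_mul_eq_one_left e.symm
    rw [this]
    exact inv_mem hv
  have h2 : t = 1 := by
    have h3 : orderOf t ∣ 2 ^ k := orderOf_dvd_of_pow_eq_one h1
    have h4 : orderOf t ∣ Nat.card ↥S.T := Subgroup.orderOf_dvd_natCard _ ht
    exact orderOf_eq_one_iff.1 (Nat.eq_one_of_dvd_coprimes (hc.pow_right k) h4 h3)
  rw [h2, one_mul]
  exact hu

theorem two_XZ (hR : S.R.p = 2) (k : ℤ) : IsPGroup 2 (S.XZ k) := by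
  have := Perf.two_J S hR (a := k) (b := k) (by omega)
  rwa [J_self] at this

theorem step1 {b : G} (hb : b ∈ S.T ⊔ J S.XZ 1 8) (hnb : S.n1 * b * S.n1⁻¹ ∉ S.T ⊔ J S.XZ 1 8) :
    ∃ b₁ ∈ S.T ⊔ J S.XZ 1 8, ∃ b₂ ∈ S.T ⊔ J S.XZ 1 8, S.n1 * b * S.n1⁻¹ = b₁ * S.n1 * b₂ := by
  obtain ⟨t, ht, u, hu, rfl⟩ := (mem_TU S).1 hb
  obtain ⟨x, hx, q, hq, rfl⟩ := S.zsys8.split (a := 1) (b := 8) (c := 2) (by norm_num) (by norm_num) (by norm_num) hu
  replace hx : x ∈ S.XZ 1 := mem_of_J_self hx (by norm_num)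
  have hq' : S.n1 * q * S.n1⁻¹ ∈ J S.XZ 2 8 := S.n1_refl.mem_J hq (by norm_num) (by norm_num)
  have hq'' : S.n1 * q * S.n1⁻¹ ∈ S.T ⊔ J S.XZ 1 8 := Subgroup.mem_sup_right (J_mono (by norm_num) (by norm_num) hq')
  have ht' : S.n1 * t * S.n1⁻¹ ∈ S.T ⊔ J S.XZ 1 8 := Subgroup.mem_sup_left (n1_T S S.n1_refl ht)
  have hx9 := n1_X S hx
  have e : S.n1 * (t * (x * q)) * S.n1⁻¹ = (S.n1 * t * S.n1⁻¹) * (S.n1 * x * S.n1⁻¹) * (S.n1 * q * S.n1⁻¹) := by group
  have hx1 : S.n1 * x * S.n1⁻¹ ≠ 1 := by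
    intro h
    apply hnb
    rw [e, h, mul_one]
    exact mul_mem ht' hq''
  obtain ⟨a, ha, s, hs, c, hc, e1⟩ := rank1 S S.n1_refl (j := 1) (by norm_num) hx9 hx1
  refine ⟨(S.n1 * t * S.n1⁻¹) * a, mul_mem ht' (Subgroup.mem_sup_right (mem_J ha (by norm_num) (by norm_num))),
    s * c * (S.n1 * q * S.n1⁻¹), mul_mem (mul_mem (Subgroup.mem_sup_left hs)
      (Subgroup.mem_sup_right (mem_J hc (by norm_num) (by norm_num)))) hq'', ?_⟩
  rw [e, e1]; group

theorem step2 {b : G} (hb : b ∈ S.T ⊔ J S.XZ 1 8) (hnb : S.n2 * b * S.n2⁻¹ ∉ S.T ⊔ J S.XZ 1 8) :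
    ∃ b₁ ∈ S.T ⊔ J S.XZ 1 8, ∃ b₂ ∈ S.T ⊔ J S.XZ 1 8, S.n2 * b * S.n2⁻¹ = b₁ * S.n2 * b₂ := by
  obtain ⟨t, ht, u, hu, rfl⟩ := (mem_TU S).1 hb
  obtain ⟨x, hx, q, hq, rfl⟩ := S.zsys8.split' (a := 1) (b := 8) (c := 8) (by norm_num) (by norm_num) (by norm_num) hu
  replace hx : x ∈ S.XZ 8 := mem_of_J_self hx (by norm_num)
  have hq' : S.n2 * q * S.n2⁻¹ ∈ J S.XZ 1 7 := S.n2_refl.mem_J hq (by norm_num) (by norm_num)
  have hq'' : S.n2 * q * S.n2⁻¹ ∈ S.T ⊔ J S.XZ 1 8 := Subgroup.mem_sup_right (J_mono (by norm_num) (by norm_num) hq')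
  have ht' : S.n2 * t * S.n2⁻¹ ∈ S.T ⊔ J S.XZ 1 8 := Subgroup.mem_sup_left (n1_T S S.n2_refl ht)
  have hx9 := n2_X' S hx
  have e : S.n2 * (t * (x * q)) * S.n2⁻¹ = (S.n2 * t * S.n2⁻¹) * (S.n2 * x * S.n2⁻¹) * (S.n2 * q * S.n2⁻¹) := by group
  have hx1 : S.n2 * x * S.n2⁻¹ ≠ 1 := by
    intro h
    apply hnb
    rw [e, h, mul_one]
    exact mul_mem ht' hq''
  obtain ⟨a, ha, s, hs, c, hc, e1⟩ := rank1 S (n2_refl' S) (j := 8) (by norm_num) hx9 hx1
  refine ⟨(S.n2 * t * S.n2⁻¹) * a, mul_mem ht' (Subgroup.mem_sup_right (mem_J ha (by norm_num) (by norm_num))),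
    s * c * (S.n2 * q * S.n2⁻¹), mul_mem (mul_mem (Subgroup.mem_sup_left hs)
      (Subgroup.mem_sup_right (mem_J hc (by norm_num) (by norm_num)))) hq'', ?_⟩
  rw [e, e1]; group

theorem NX1 {k : G} (hk : k ∈ Nm S) : (∀ x ∈ S.XZ 1, k⁻¹ * x * k ∈ S.T ⊔ J S.XZ 1 8) ∨
    (∀ x ∈ S.XZ 1, k⁻¹ * (S.n1 * x * S.n1⁻¹) * k ∈ S.T ⊔ J S.XZ 1 8) := by
  rcases Nm_dich S hk 1 with h | h
  · exact Or.inl fun x hx => Subgroup.mem_sup_right (h x hx)
  · refine Or.inr fun x hx => Subgroup.mem_sup_right (h _ ?_)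
    exact n1_X S hx

theorem NX2 {k : G} (hk : k ∈ Nm S) : (∀ x ∈ S.XZ 8, k⁻¹ * x * k ∈ S.T ⊔ J S.XZ 1 8) ∨
    (∀ x ∈ S.XZ 8, k⁻¹ * (S.n2 * x * S.n2⁻¹) * k ∈ S.T ⊔ J S.XZ 1 8) := by
  rcases Nm_dich S hk 8 with h | h
  · exact Or.inl fun x hx => Subgroup.mem_sup_right (h x hx)
  · refine Or.inr fun x hx => Subgroup.mem_sup_right (h _ ?_)
    exact n2_X S hx

theorem nX1 (hR : S.R.p = 2) {x : G} (hx : x ∈ S.XZ 1) (h : S.n1⁻¹ * x * S.n1 ∈ S.T ⊔ J S.XZ 1 8) : x = 1 := by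
  have h1 : S.n1⁻¹ * x * S.n1 ∈ S.XZ 9 := S.n1_refl.mem_inv hx (by norm_num)
  have h2 := X9_inf_U S h1 (U_of_two S hR (two_XZ S hR 9) h1 h)
  have e : x = S.n1 * (S.n1⁻¹ * x * S.n1) * S.n1⁻¹ := by group
  rw [e, h2]; group

theorem nX2 (hR : S.R.p = 2) {x : G} (hx : x ∈ S.XZ 8) (h : S.n2⁻¹ * x * S.n2 ∈ S.T ⊔ J S.XZ 1 8) : x = 1 := by
  have h1 : S.n2⁻¹ * x * S.n2 ∈ S.XZ 0 := S.n2_refl.mem_inv hx (by norm_num)
  have h2 := (S.J07_inf_UT h1 (U_of_two S hR (two_XZ S hR 0) h1 h) (one_mem S.T) (mul_one _).symm).1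
  have e : x = S.n2 * (S.n2⁻¹ * x * S.n2) * S.n2⁻¹ := by group
  rw [e, h2]; group

theorem T_le_Nm : S.T ≤ Nm S := fun _ ht => ⟨0, Or.inl (Maps.congr (f := id) ht fun k => by simp)⟩

theorem NT {k : G} (hk : k ∈ Nm S) {t : G} (ht : t ∈ S.T) : k * t * k⁻¹ ∈ S.T := by
  obtain ⟨c, hk | hk⟩ := hk
  · have h1 : Maps S.R.X k⁻¹ (fun j => -c + j) := hk.inv fun k => by ring
    exact ((hk.mul ht).mul h1).congr fun j => by simp
  · have h1 : Maps S.R.X k⁻¹ (fun j => c - j) := hk.inv fun k => by ring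
    exact ((hk.mul ht).mul h1).congr fun j => by simp

/-- **the split (B,N)-datum** -/
noncomputable def datF (hR : S.R.p = 2) : Dat G (Fin 2) 2 where
  U := J S.XZ 1 8
  T := S.T
  X := ![S.XZ 1, S.XZ 8]
  Q := ![J S.XZ 2 8, J S.XZ 1 7]
  n := ![S.n1, S.n2]
  N := Nm S
  hp := Nat.prime_two
  pU := Perf.two_J S hR (by norm_num)
  cop := (AutNorm.odd_T S).coprime_two_right
  TU := fun t ht u hu => S.T_conj_J ht hu
  TX := Fin.forall_fin_two.2 ⟨fun t ht u hu => S.T_conj (k := 1) ht hu, fun t ht u hu => S.T_conj (k := 8) ht hu⟩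
  TQ := Fin.forall_fin_two.2 ⟨fun t ht u hu => S.T_conj_J (a := 2) (b := 8) ht hu,
    fun t ht u hu => S.T_conj_J (a := 1) (b := 7) ht hu⟩
  UQ := Fin.forall_fin_two.2 ⟨fun x hx u hu => S.zsys8.conj_J (a := 2) (b := 8) (c := 1) (d := 8)
      (by norm_num) (by norm_num) (by norm_num) hx hu,
    fun x hx u hu => S.zsys8.conj_J (a := 1) (b := 7) (c := 1) (d := 8) (by norm_num) (by norm_num) (by norm_num) hx hu⟩
  XU := Fin.forall_fin_two.2 ⟨X_le_J (X := S.XZ) (k := 1) (a := 1) (b := 8) (by norm_num) (by norm_num),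
    X_le_J (X := S.XZ) (k := 8) (a := 1) (b := 8) (by norm_num) (by norm_num)⟩
  QU := Fin.forall_fin_two.2 ⟨J_mono (X := S.XZ) (a := 2) (b := 8) (by norm_num) (by norm_num),
    J_mono (X := S.XZ) (a := 1) (b := 7) (by norm_num) (by norm_num)⟩
  XQ := Fin.forall_fin_two.2 ⟨Fin.forall_fin_two.2 ⟨fun h => absurd rfl h,
      fun _ => X_le_J (X := S.XZ) (k := 1) (a := 1) (b := 7) (by norm_num) (by norm_num)⟩,
    Fin.forall_fin_two.2 ⟨fun _ => X_le_J (X := S.XZ) (k := 8) (a := 2) (b := 8) (by norm_num) (by norm_num),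
      fun h => absurd rfl h⟩⟩
  mul := Fin.forall_fin_two.2 ⟨fun u hu => by
      obtain ⟨q, hq, p, hp, e⟩ := S.zsys8.split' (a := 1) (b := 8) (c := 2) (by norm_num) (by norm_num) (by norm_num) hu
      exact ⟨q, hq, p, mem_of_J_self (b := 2 - 1) hp (by norm_num), e⟩, fun u hu => by
      obtain ⟨q, hq, p, hp, e⟩ := S.zsys8.split (a := 1) (b := 8) (c := 8) (by norm_num) (by norm_num) (by norm_num) hu
      exact ⟨q, J_mono (by norm_num) (by norm_num) hq, p, mem_of_J_self (b := 8) hp (by norm_num), e⟩⟩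
  nQ := Fin.forall_fin_two.2 ⟨fun u hu => S.n1_refl.mem_J (a := 2) (b := 8) hu (by norm_num) (by norm_num),
    fun u hu => S.n2_refl.mem_J (a := 1) (b := 7) hu (by norm_num) (by norm_num)⟩
  nQ' := Fin.forall_fin_two.2 ⟨fun u hu => S.n1_refl.mem_J_inv (a := 2) (b := 8) hu (by norm_num) (by norm_num),
    fun u hu => S.n2_refl.mem_J_inv (a := 1) (b := 7) hu (by norm_num) (by norm_num)⟩
  nN := Fin.forall_fin_two.2 ⟨⟨10, Or.inr (n1_maps S)⟩, ⟨8, Or.inr S.n2_maps⟩⟩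
  TN := T_le_Nm S
  NT := fun k hk t ht => NT S hk ht
  nX := Fin.forall_fin_two.2 ⟨fun x hx h => nX1 S hR hx h, fun x hx h => nX2 S hR hx h⟩
  Xne := Fin.forall_fin_two.2 ⟨S.zsys8.ne_bot 1, S.zsys8.ne_bot 8⟩
  step := Fin.forall_fin_two.2 ⟨fun b hb hnb => step1 S hb hnb, fun b hb hnb => step2 S hb hnb⟩
  bruhat := fun g => by
    obtain ⟨b, hb, t, ht, w, hw, b', hb', e⟩ := S.bruhat g
    exact ⟨b, hb, t * w, mul_mem (T_le_Nm S ht) hw, b', Subgroup.mem_sup_right hb', by rw [e]; group⟩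
  NX := fun k hk => Fin.forall_fin_two.2 ⟨NX1 S hk, NX2 S hk⟩
  sq := Fin.forall_fin_two.2 ⟨by
      show S.n1 * S.n1 ∈ S.T
      rw [S.n1_sq]; exact one_mem _, by
      show S.n2 * S.n2 ∈ S.T
      rw [S.n2_sq]; exact one_mem _⟩

@[simp] theorem datF_U (hR : S.R.p = 2) : (datF S hR).U = J S.XZ 1 8 := rfl

/-- the longest element -/
def w0 : G := (S.n1 * S.n2) * (S.n1 * S.n2) * ((S.n1 * S.n2) * (S.n1 * S.n2))

theorem w0_maps : Maps S.R.X (w0 S) (fun k => 8 + k) := by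
  have h1 : Maps S.R.X (S.n1 * S.n2) (fun k => 2 + k) :=
    ((n1_maps S).mul S.n2_maps).congr fun k => by simp only [Function.comp]; ring
  have h2 := (h1.mul h1)
  exact (h2.mul h2).congr fun k => by simp only [Function.comp]; ring

theorem w0_dich {k : G} (hk : k ∈ Nm S) : (∀ x ∈ S.XZ 1, k⁻¹ * x * k ∈ S.T ⊔ J S.XZ 1 8) ∨
    (∀ x ∈ S.XZ 8, k⁻¹ * x * k ∈ S.T ⊔ J S.XZ 1 8) ∨
    (∀ x ∈ J S.XZ 1 8, k⁻¹ * (w0 S * x * (w0 S)⁻¹) * k ∈ S.T ⊔ J S.XZ 1 8) := by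
  obtain ⟨c, h⟩ := (Nm S).inv_mem hk
  have key : ∀ f : ZMod (2 * 8) → ZMod (2 * 8), Maps S.R.X k⁻¹ f → (Po (f 1) ∨ Po (f 8) ∨ ∀ i, Po i → Po (f (8 + i))) →
      (∀ x ∈ S.XZ 1, k⁻¹ * x * k ∈ S.T ⊔ J S.XZ 1 8) ∨
    (∀ x ∈ S.XZ 8, k⁻¹ * x * k ∈ S.T ⊔ J S.XZ 1 8) ∨
    (∀ x ∈ J S.XZ 1 8, k⁻¹ * (w0 S * x * (w0 S)⁻¹) * k ∈ S.T ⊔ J S.XZ 1 8) := by
    intro f hf h8
    rcases h8 with h1 | h1 | h1
    · left
      intro x hx
      have := (hf 1 x).2 hx
      rw [inv_inv] at this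
      exact Subgroup.mem_sup_right (X_le_U S h1 this)
    · right; left
      intro x hx
      have := (hf 8 x).2 hx
      rw [inv_inv] at this
      exact Subgroup.mem_sup_right (X_le_U S h1 this)
    · right; right
      have h2 : J S.XZ 1 8 ≤ (J S.XZ 1 8).comap (MulAut.conj (k⁻¹ * w0 S)).toMonoidHom := by
        refine U_le S fun j hj x hx => ?_
        have h3 := (hf.mul (w0_maps S) j x).2 hx
        exact X_le_U S (h1 j hj) h3
      intro x hx
      have h3 := h2 hx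
      refine Subgroup.mem_sup_right ?_
      have e : k⁻¹ * (w0 S * x * (w0 S)⁻¹) * k = (k⁻¹ * w0 S) * x * (k⁻¹ * w0 S)⁻¹ := by group
      rw [e]
      exact h3
  rcases h with h | h
  · exact key _ h (po_add c)
  · exact key _ h (po_sub c)

theorem exists_jdat (hF : ∃ c : Fˣ, c ≠ 1) (hR : S.R.p = 2) (J' : Set (Fin 2)) (hJ : J'.Nonempty) :
    ∃ E : JDat (datF S hR) J', E.Q ≤ ⁅(datF S hR).U, (datF S hR).U⁆ ⊔ ⨆ i : (J'ᶜ : Set (Fin 2)), (datF S hR).X i := by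
  have h27 := J27_le S hF
  have h27' : J S.XZ 2 7 ≤ ⁅(datF S hR).U, (datF S hR).U⁆ := h27
  by_cases h0 : (0 : Fin 2) ∈ J'
  · by_cases h1 : (1 : Fin 2) ∈ J'
    · -- everything
      have hle : ∀ j : Fin 2, (datF S hR).P j ≤ ⨆ j : J', (datF S hR).P j := by
        intro j
        have hj : j ∈ J' := by fin_cases j <;> assumption
        exact le_iSup (fun j : J' => (datF S hR).P j) ⟨j, hj⟩
      have hn1 : S.n1 ∈ ⨆ j : J', (datF S hR).P j := hle 0 ((datF S hR).n_mem_P 0)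
      have hn2 : S.n2 ∈ ⨆ j : J', (datF S hR).P j := hle 1 ((datF S hR).n_mem_P 1)
      refine ⟨{
        Q := ⊥
        V := J S.XZ 1 8
        w := w0 S
        QU := bot_le
        VU := le_rfl
        mul := fun u hu => ⟨1, one_mem _, u, hu, (one_mul u).symm⟩
        UQ := fun x _ v hv => by
          rw [Subgroup.mem_bot] at hv ⊢
          rw [hv]; group
        wQ := fun v hv => by
          rw [Subgroup.mem_bot] at hv ⊢
          rw [hv]; group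
        wQ' := fun v hv => by
          rw [Subgroup.mem_bot] at hv ⊢
          rw [hv]; group
        wN := ⟨8, Or.inl (w0_maps S)⟩
        wP := mul_mem (mul_mem (mul_mem hn1 hn2) (mul_mem hn1 hn2)) (mul_mem (mul_mem hn1 hn2) (mul_mem hn1 hn2))
        XV := fun j _ => (datF S hR).XU j
        dich := fun k hk => by
          rcases w0_dich S hk with h | h | h
          · exact Or.inl ⟨0, h0, h⟩
          · exact Or.inl ⟨1, h1, h⟩
          · exact Or.inr h }, bot_le⟩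
    · -- `{0}`
      have hJ' : ∀ j ∈ J', j = 0 := by
        intro j hj
        by_contra hne
        have : j = 1 := by omega
        exact h1 (this ▸ hj)
      refine ⟨{
        Q := J S.XZ 2 8
        V := S.XZ 1
        w := S.n1
        QU := (datF S hR).QU 0
        VU := (datF S hR).XU 0
        mul := (datF S hR).mul 0
        UQ := (datF S hR).UQ 0
        wQ := (datF S hR).nQ 0
        wQ' := (datF S hR).nQ' 0
        wN := (datF S hR).nN 0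
        wP := (le_iSup (fun j : J' => (datF S hR).P j) ⟨0, h0⟩) ((datF S hR).n_mem_P 0)
        XV := fun j hj => by rw [hJ' j hj]; exact le_rfl
        dich := fun k hk => by
          rcases NX1 S hk with h | h
          · exact Or.inl ⟨0, h0, h⟩
          · exact Or.inr h }, ?_⟩
      refine J_le fun k hk1 hk2 => ?_
      rcases (show k = 8 ∨ k ≤ 7 by omega) with rfl | hk
      · exact le_sup_of_le_right (le_iSup (fun i : (J'ᶜ : Set (Fin 2)) => (datF S hR).X i) ⟨1, h1⟩)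
      · exact le_sup_of_le_left ((X_le_J hk1 hk).trans h27')
  · have h1 : (1 : Fin 2) ∈ J' := by
      obtain ⟨j, hj⟩ := hJ
      have : j ≠ 0 := fun h => h0 (h ▸ hj)
      have : j = 1 := by omega
      exact this ▸ hj
    have hJ' : ∀ j ∈ J', j = 1 := by
      intro j hj
      by_contra hne
      have : j = 0 := by omega
      exact h0 (this ▸ hj)
    refine ⟨{
      Q := J S.XZ 1 7
      V := S.XZ 8
      w := S.n2
      QU := (datF S hR).QU 1
      VU := (datF S hR).XU 1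
      mul := (datF S hR).mul 1
      UQ := (datF S hR).UQ 1
      wQ := (datF S hR).nQ 1
      wQ' := (datF S hR).nQ' 1
      wN := (datF S hR).nN 1
      wP := (le_iSup (fun j : J' => (datF S hR).P j) ⟨1, h1⟩) ((datF S hR).n_mem_P 1)
      XV := fun j hj => by rw [hJ' j hj]; exact le_rfl
      dich := fun k hk => by
        rcases NX2 S hk with h | h
        · exact Or.inl ⟨1, h1, h⟩
        · exact Or.inr h }, ?_⟩
    refine J_le fun k hk1 hk2 => ?_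
    rcases (show k = 1 ∨ 2 ≤ k by omega) with rfl | hk
    · exact le_sup_of_le_right (le_iSup (fun i : (J'ᶜ : Set (Fin 2)) => (datF S hR).X i) ⟨0, h0⟩)
    · exact le_sup_of_le_left ((X_le_J hk hk2).trans h27')

theorem gen_U (hF : ∃ c : Fˣ, c ≠ 1) (hR : S.R.p = 2) :
    (datF S hR).U ≤ ⁅(datF S hR).U, (datF S hR).U⁆ ⊔ ⨆ i, (datF S hR).X i := by
  have h27' : J S.XZ 2 7 ≤ ⁅(datF S hR).U, (datF S hR).U⁆ := J27_le S hF
  refine J_le fun k hk1 hk2 => ?_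
  rcases (show k = 1 ∨ k = 8 ∨ (2 ≤ k ∧ k ≤ 7) by omega) with rfl | rfl | ⟨h2, h7⟩
  · exact le_sup_of_le_right (le_iSup (datF S hR).X 0)
  · exact le_sup_of_le_right (le_iSup (datF S hR).X 1)
  · exact le_sup_of_le_left ((X_le_J h2 h7).trans h27')

end BN

section Row

open Cfsg.Agent.H384.TwoTrans

/-- **Theorem D for `²F₄(q)`** -/
theorem borel_transitive {G : Type u} {Ω : Type v} [Group G] [MulAction G Ω] {T : Subgroup G} (A : AS G Ω T)
    {F : Type*} [Field F] [Finite F] {σ : F →+* F} {Y : Type w} [Group Y] (S : Full σ Y) (e : T ≃* Y)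
    (hF : ∃ c : Fˣ, c ≠ 1) (hR : S.R.p = 2) (hdvd : 2 ∣ Nat.card Ω) (a b : Ω) :
    ∃ y ∈ J S.XZ 1 8 ⊔ S.T, ((e.symm y : T) : G) • a = b := by
  have := A.finG
  have := A.finΩ
  have : Finite Y := Finite.of_equiv _ e.toEquiv
  let _ : Fintype Ω := Fintype.ofFinite Ω
  let φ : Y →* G := T.subtype.comp e.symm.toMonoidHom
  have hφ : Function.Injective φ := T.subtype_injective.comp e.symm.injective
  have hr : φ.range = T := by
    show (T.subtype.comp e.symm.toMonoidHom).range = T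
    rw [MonoidHom.range_comp, MonoidHom.range_eq_top.2 e.symm.surjective, ← MonoidHom.range_eq_map,
      Subgroup.range_subtype]
  let _ : MulAction Y Ω := MulAction.compHom Ω φ
  rw [Nat.card_eq_fintype_card] at hdvd
  have hN := A.normal
  have htr := A.transitive
  have h1 : ∀ x y : Ω, ∃ t : Y, t • x = y := by
    intro x y
    obtain ⟨t, ht⟩ := htr.exists_smul_eq x y
    refine ⟨e t, ?_⟩
    rw [← ht]
    show ((e.symm (e t) : T) : G) • x = _
    rw [e.symm_apply_apply]; rfl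
  have h2 : ∀ y : Y, (∀ u ∈ (datF S hR).U, y * u * y⁻¹ ∈ (datF S hR).U) → y ∈ (datF S hR).B := by
    intro y hy
    have hcard : ∀ x, x ∈ J S.XZ 1 8 ↔ y * x * y⁻¹ ∈ J S.XZ 1 8 := by
      have h1 : (J S.XZ 1 8).map (MulAut.conj y).toMonoidHom = J S.XZ 1 8 := by
        refine Subgroup.eq_of_le_of_card_ge ?_ ?_
        · rintro _ ⟨u, hu, rfl⟩
          exact hy u hu
        · exact (Nat.card_congr ((J S.XZ 1 8).equivMapOfInjective _ (MulAut.conj y).injective).toEquiv).le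
      intro x
      refine ⟨hy x, fun hx => ?_⟩
      rw [← h1] at hx
      obtain ⟨u, hu, e1⟩ := hx
      have e2 : y * u * y⁻¹ = y * x * y⁻¹ := e1
      have : u = x := by
        have := mul_right_cancel e2
        exact mul_left_cancel this
      exact this ▸ hu
    obtain ⟨b, hb, t, ht, e1⟩ := SylU.norm_U S hF hR hcard
    rw [e1]
    exact mul_mem ((datF S hR).U_le_B hb) ((datF S hR).T_le_B ht)
  obtain ⟨y, hy, h⟩ := H249.transitive_of_dvd (datF S hR) φ (fun _ _ => rfl) A.two (hr.symm ▸ hN)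
    (by rw [(MonoidHom.ker_eq_bot_iff φ).2 hφ]; exact bot_le) h1 h2 (gen_U S hF hR) (exists_jdat S hF hR) hdvd a b
  refine ⟨y, ?_, h⟩
  rw [sup_comm]; exact hy

theorem row {G : Type u} {Ω : Type v} [Group G] [MulAction G Ω] {T : Subgroup G} (A : AS G Ω T)
    {F : Type*} [Field F] [Finite F] {σ : F →+* F} {Y : Type w} [Group Y] (S : Full σ Y) (e : T ≃* Y)
    (hF : ∃ c : Fˣ, c ≠ 1) (hR : S.R.p = 2) {q f : ℕ} (hq : Nat.card F = q) (hqf : q = 2 ^ f) (hf : 3 ≤ f)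
    (hY : Nat.card Y = q ^ 12 * (q - 1) * (q ^ 3 + 1) * (q ^ 4 - 1) * (q ^ 6 + 1)) (hdvd : 2 ∣ Nat.card Ω) : False :=
  row_of_borel A S e hF hR hq hqf hf hY (borel_transitive A S e hF hR hdvd)

end Row

end Cfsg.Agent.H392.TwFFour
end
end

-- part: H384/TwoTransOf
section
set_option linter.all false

/-!
# HUB H1: assembly from the family rows (helper384)
-/

set_option autoImplicit false

namespace Cfsg.Agent.H384.TwoTrans

open MulAction

universe u v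

/-- `P` is a family of simple groups `T` for which the classification of the 2-transitive actions of the almost
simple groups with socle `T` is known. -/
def Row (P : ∀ (T : Type u) [Group T], Prop) : Prop :=
  ∀ (G : Type u) (Ω : Type v) [Group G] [MulAction G Ω] (T : Subgroup G), AS G Ω T → P ↥T →
    Known2 ↥T (Nat.card Ω)

/-- The same for the degrees divisible by the characteristic `p`. -/
def RowDvd (P : ∀ (p : ℕ) (T : Type u) [Group T], Prop) : Prop :=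
  ∀ (G : Type u) (Ω : Type v) [Group G] [MulAction G Ω] (T : Subgroup G) (p : ℕ), p.Prime → p ∣ Nat.card Ω →
    AS G Ω T → P p ↥T → Known2 ↥T (Nat.card Ω)

/-- All the rows. -/
structure Rows : Prop where
  /-- helper503 -/
  alt : Row.{u, v} fun T _ => Cfsg.IsAlternating T
  /-- helper510, helper202 -/
  spor : Row.{u, v} fun T _ => Cfsg.IsSporadicGroup T
  /-- helper510, helper202 -/
  tits : Row.{u, v} fun T _ => Cfsg.Lie.IsoTits T
  /-- helper410 -/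
  coprime : ∀ (G : Type u) (Ω : Type v) [Group G] [MulAction G Ω] (T : Subgroup G) (p : ℕ), p.Prime →
    ¬ p ∣ Nat.card Ω → AS G Ω T → Cfsg.IsLieTypeChar p ↥T → Known2 ↥T (Nat.card Ω)
  /-- helper221 (d ≥ 3), helper436 (d = 2) -/
  psl : RowDvd.{u, v} fun p T _ => Cfsg.IsPSLChar p T
  /-- helper387 -/
  psp : RowDvd.{u, v} fun p T _ => Cfsg.IsPSpChar p T
  /-- helper667 -/
  psu : RowDvd.{u, v} fun p T _ => Cfsg.IsPSUChar p T
  /-- helper353 -/
  pOmegaOdd : RowDvd.{u, v} fun p T _ => Cfsg.IsPOmegaOddChar p T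
  /-- helper353 -/
  pOmegaPlus : RowDvd.{u, v} fun p T _ => Cfsg.IsPOmegaPlusChar p T
  /-- helper353 -/
  pOmegaMinus : RowDvd.{u, v} fun p T _ => Cfsg.IsPOmegaMinusChar p T
  /-- helper400, helper392 -/
  excChev : RowDvd.{u, v} fun p T _ => Cfsg.IsExceptionalChevChar p T
  /-- helper400 -/
  twisted : RowDvd.{u, v} fun p T _ => Cfsg.IsTwistedE6D4Char p T
  /-- helper125 -/
  sz : Row.{u, v} fun T _ => Cfsg.Lie.IsoSuzuki T
  /-- helper392 -/
  twoF4 : RowDvd.{u, v} fun p T _ => p = 2 ∧ Cfsg.Lie.Iso2F4 T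
  /-- helper125 -/
  ree : Row.{u, v} fun T _ => Cfsg.Lie.IsoRee T

variable {G : Type u} {Ω : Type v} [Group G] [MulAction G Ω] {T : Subgroup G}

theorem Rows.lie (R : Rows.{u, v}) (A : AS G Ω T) {p : ℕ} (hp : p.Prime) (h : Cfsg.IsLieTypeChar p ↥T) :
    Known2 ↥T (Nat.card Ω) := by
  by_cases hd : p ∣ Nat.card Ω
  · rcases h with h | h | h | h | h | h | h | h | ⟨h', h⟩ | ⟨h', h⟩ | ⟨h', h⟩
    · exact R.psl G Ω T p hp hd A h
    · exact R.psp G Ω T p hp hd A h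
    · exact R.psu G Ω T p hp hd A h
    · exact R.pOmegaOdd G Ω T p hp hd A h
    · exact R.pOmegaPlus G Ω T p hp hd A h
    · exact R.pOmegaMinus G Ω T p hp hd A h
    · exact R.excChev G Ω T p hp hd A h
    · exact R.twisted G Ω T p hp hd A h
    · exact R.sz G Ω T A h
    · exact R.twoF4 G Ω T p hp hd A ⟨h', h⟩
    · exact R.ree G Ω T A h
  · exact R.coprime G Ω T p hp hd A h

theorem Rows.known (R : Rows.{u, v}) (A : AS G Ω T) (h : Cfsg.IsKnownSimple' ↥T) :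
    Known2 ↥T (Nat.card Ω) := by
  rcases Cfsg.Agent.OddHalf.Known.classify' A.nonab h with h | ⟨p, hp, h⟩ | h | h
  · exact R.alt G Ω T A h
  · exact R.lie A hp h
  · exact R.tits G Ω T A h
  · exact R.spor G Ω T A h

theorem Rows.main (R : Rows.{u, v})
    (hS : ∀ (X : Type u) [Group X] [Finite X] [IsSimpleGroup X], Cfsg.IsKnownSimple' X) (A : AS G Ω T) :
    Known2 ↥T (Nat.card Ω) := by
  have := A.finT
  have := A.simple
  exact R.known A (hS ↥T)

end Cfsg.Agent.H384.TwoTrans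
end

-- part: H392/TwFFour/Final
section
set_option linter.all false
open scoped Cfsg.Agent.FastGrp

/-!
# HUB H1, the row `²F₄(q)`, `q ≥ 8` (helper392)
-/

set_option autoImplicit false

namespace Cfsg.Agent.H392.TwFFour

open Cfsg.Agent.H384.TwoTrans Cfsg.Agent.KFacts.TwF4

universe u v

/-- A group of type `²F₄(q)`, `q ≥ 8`, is not the socle of a 2-transitive group of even degree. -/
theorem false_of_iso {G : Type u} {Ω : Type v} [Group G] [MulAction G Ω] {T : Subgroup G} (A : AS G Ω T)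
    (h : Cfsg.Lie.Iso2F4 ↥T) (hdvd : 2 ∣ Nat.card Ω) : False := by
  obtain ⟨K, iK, fK, m, hm, hK, ⟨e⟩⟩ := h
  have := H318.charTwo_of_card hK
  obtain ⟨φ, hφ⟩ := Cfsg.Agent.ChevalleyStructure.TwF4.TwistedFix.exists_rln hK
  have hF : ∃ c : Kˣ, c ≠ 1 := by
    by_contra hcon
    push Not at hcon
    have h1 : Nat.card Kˣ ≤ 1 := by
      have : Subsingleton Kˣ := ⟨fun a b => (hcon a).trans (hcon b).symm⟩
      exact Finite.card_le_one_iff_subsingleton.2 this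
    rw [Nat.card_units, Nat.card_eq_fintype_card, hK] at h1
    have : 2 ^ 3 ≤ 2 ^ (2 * m + 1) := Nat.pow_le_pow_right (by norm_num) (by omega)
    omega
  have hc : Nat.card K = 2 ^ (2 * m + 1) := by rw [Nat.card_eq_fintype_card, hK]
  exact row A (Inst.full hK hφ) e hF rfl hc rfl (by omega) (S1068.result hK) hdvd

theorem row_twoF4 : RowDvd.{u, v} fun p T _ => p = 2 ∧ Cfsg.Lie.Iso2F4 T := by
  rintro G Ω _ _ T p hp hd A ⟨rfl, h⟩
  exact (false_of_iso A h hd).elim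

end Cfsg.Agent.H392.TwFFour
end
end
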